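import Groth.Agent.CStk17.NodeOpen.Point
import Groth.Agent.MorLib.SmoothLocus
import Mathlib.RingTheory.Smooth.Locus

/-!
# Dimension one at quadratic nodes; smoothness at points with an invertible minor
-/

set_option autoImplicit false
set_option backward.isDefEq.respectTransparency.types false
set_option linter.style.haveILetI false

universe u

open MvPolynomial IsLocalRing Matrix

namespace Groth.Agent.CStk17.NodeOpen

open NodeAlg15 (quad IsQuadNode)

theorem mem_span_of_sq {A : Type u} [CommRing A] [IsLocalRing A] [IsNoetherianRing A] {z w : A}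
    (h : maximalIdeal A = Ideal.span {z, w}) (hz : z ^ 2 ∈ Ideal.span {w} ⊔ maximalIdeal A ^ 3) :
    maximalIdeal A ^ 2 ≤ Ideal.span {w} := by
  set W : Ideal A := Ideal.span {w} with hW
  have hzm : z ∈ maximalIdeal A := h ▸ Ideal.subset_span (by simp)
  have h3 : maximalIdeal A ^ 3 ≤ W ⊔ Ideal.span {z ^ 3} := by
    let π := Ideal.Quotient.mk W
    have hw0 : π w = 0 := Ideal.Quotient.eq_zero_iff_mem.2 (Ideal.mem_span_singleton_self w)
    have hmap : (maximalIdeal A).map π = Ideal.span {π z} := by
      rw [h, Ideal.map_span, Set.image_insert_eq, Set.image_singleton, hw0, Set.pair_comm,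
        Ideal.span_insert, Ideal.span_singleton_zero, bot_sup_eq]
    calc maximalIdeal A ^ 3 ≤ ((maximalIdeal A ^ 3).map π).comap π := Ideal.le_comap_map
      _ = ((Ideal.span {z ^ 3}).map π).comap π := by
        rw [Ideal.map_pow, hmap, Ideal.map_span, Set.image_singleton, map_pow, Ideal.span_singleton_pow]
      _ = W ⊔ Ideal.span {z ^ 3} := by
        rw [Ideal.comap_map_of_surjective' π Ideal.Quotient.mk_surjective, Ideal.mk_ker, sup_comm]
  have hz' : z ^ 2 ∈ W ⊔ Ideal.span {z ^ 3} := sup_le le_sup_left h3 hz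
  obtain ⟨p, hp, q, hq, hpq⟩ := Submodule.mem_sup.1 hz'
  obtain ⟨t, rfl⟩ := Ideal.mem_span_singleton'.1 hq
  have hu : IsUnit (1 - t * z) := by
    by_contra hn
    have := add_mem ((mem_maximalIdeal _).2 hn) (Ideal.mul_mem_left _ t hzm)
    rw [sub_add_cancel] at this
    exact (mem_maximalIdeal _).1 this isUnit_one
  have hz2 : z ^ 2 ∈ W := by
    rw [← Ideal.unit_mul_mem_iff_mem _ hu, show (1 - t * z) * z ^ 2 = z ^ 2 - t * z ^ 3 by ring, ← hpq,
      add_sub_cancel_right]
    exact hp
  rw [h, sq, Ideal.span_mul_span', Ideal.span_le]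
  rintro _ ⟨p, hp, q, hq, rfl⟩
  simp only [Set.mem_insert_iff, Set.mem_singleton_iff] at hp hq
  rcases hp with rfl | rfl <;> rcases hq with rfl | rfl
  · exact (congrArg (· ∈ W) (sq _)).mp hz2
  · exact Ideal.mul_mem_left _ _ (Ideal.mem_span_singleton_self _)
  · exact Ideal.mul_mem_right _ _ (Ideal.mem_span_singleton_self _)
  · exact Ideal.mul_mem_left _ _ (Ideal.mem_span_singleton_self _)

/-- A quadratic node has dimension at most one. -/
theorem height_le_one_of_isQuadNode {A : Type u} [CommRing A] [IsLocalRing A] [IsNoetherianRing A]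
    (hA : IsQuadNode A) : (maximalIdeal A).height ≤ 1 := by
  obtain ⟨-, -, x, y, a, b, c, hxy, hu, hq⟩ := hA
  set m := maximalIdeal A with hm
  have hx : x ∈ m := hxy ▸ Ideal.subset_span (by simp)
  have hy : y ∈ m := hxy ▸ Ideal.subset_span (by simp)
  obtain ⟨z, w, hzw, hz⟩ : ∃ z w, m = Ideal.span {z, w} ∧ z ^ 2 ∈ Ideal.span {w} ⊔ m ^ 3 := by
    have key : ∀ {d e z w : A}, IsUnit d → d * z ^ 2 + e * w ∈ m ^ 3 → z ^ 2 ∈ Ideal.span {w} ⊔ m ^ 3 := by
      intro d e z w hd h
      rw [← Ideal.unit_mul_mem_iff_mem _ hd, show d * z ^ 2 = (d * z ^ 2 + e * w) - e * w by ring]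
      exact sub_mem (Ideal.mem_sup_right h) (Ideal.mem_sup_left (Ideal.mul_mem_left _ _ (Ideal.mem_span_singleton_self w)))
    have hxx : ∀ {d : A}, d ∈ m → ∀ {p q : A}, p ∈ m → q ∈ m → d * (p * q) ∈ m ^ 3 := fun hd p q hp hq => by
      rw [pow_succ', sq]
      exact Ideal.mul_mem_mul hd (Ideal.mul_mem_mul hp hq)
    by_cases ha : IsUnit a
    · exact ⟨x, y, hxy, key ha (e := b * x + c * y) ((congrArg (· ∈ m ^ 3) (by simp [quad]; ring)).mp hq)⟩
    by_cases hc : IsUnit c
    · exact ⟨y, x, hxy.trans (congrArg Ideal.span (Set.pair_comm x y)),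
        key hc (e := a * x + b * y) ((congrArg (· ∈ m ^ 3) (by simp [quad]; ring)).mp hq)⟩
    have hb : IsUnit b := ((NodeAlg15.exists_unit_coeff hu).resolve_left ha).resolve_right hc
    have ha' := hxx ((mem_maximalIdeal _).2 ha) hx hx
    have hc' := hxx ((mem_maximalIdeal _).2 hc) hy hy
    refine ⟨x, x + y, ?_, key (d := -b) hb.neg (e := b * x) ?_⟩
    · rw [hxy]
      refine le_antisymm (Ideal.span_le.2 ?_) (Ideal.span_le.2 ?_)
      · simp only [Set.insert_subset_iff, Set.singleton_subset_iff, SetLike.mem_coe]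
        refine ⟨Ideal.subset_span (by simp), ?_⟩
        have := sub_mem (Ideal.subset_span (by simp) : x + y ∈ Ideal.span {x, x + y})
          (Ideal.subset_span (by simp) : x ∈ Ideal.span {x, x + y})
        simpa using this
      · simp only [Set.insert_subset_iff, Set.singleton_subset_iff, SetLike.mem_coe]
        exact ⟨Ideal.subset_span (by simp), add_mem (Ideal.subset_span (by simp)) (Ideal.subset_span (by simp))⟩
    · rw [show -b * x ^ 2 + b * x * (x + y) = quad a b c x y - a * (x * x) - c * (y * y) by simp [quad]; ring]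
      exact sub_mem (sub_mem hq ha') hc'
  have hsq := mem_span_of_sq hzw hz
  refine Ideal.height_le_one_of_isPrincipal_of_mem_minimalPrimes (Ideal.span {w}) m ?_
  refine ⟨⟨inferInstance, (Ideal.span_singleton_le_iff_mem _).2 (hzw ▸ Ideal.subset_span (by simp))⟩, ?_⟩
  intro p hp hpm
  haveI := hp.1
  exact (Ideal.IsPrime.pow_le_iff two_ne_zero).1 (hsq.trans hp.2)

variable {K : Type u} [Field K] {n c : ℕ} {f : Fin c → MvPolynomial (Fin n) K}

theorem height_polynomial_max (m : Ideal (MvPolynomial (Fin n) K)) [m.IsMaximal] : m.height = n := by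
  let P : PrimeSpectrum (MvPolynomial (Fin n) K) := ⟨m, inferInstance⟩
  have h := VarDim.height_add_coheight_eq K n (MvPolynomial (Fin n) K)
    (by rw [MvPolynomial.ringKrullDim_of_isNoetherianRing, ringKrullDim_eq_zero_of_field, zero_add]; simp) P
  rw [Order.coheight_eq_zero.2 ((PrimeSpectrum.isMax_iff).2 (show P.asIdeal.IsMaximal from ‹m.IsMaximal›)), add_zero]
    at h
  rw [← h]
  exact PrimeSpectrum.height_eq_orderHeight P

/-- The number of equations at a quadratic node. -/
theorem card_add_one_eq (hrel : Synt.IsRelGCI K n c f) (χ : Synt.RelGCIRing K n c f →ₐ[K] K)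
    (hq : letI := (isMaximal_ker χ).isPrime
      IsQuadNode (Localization.AtPrime (RingHom.ker χ.toRingHom))) : c + 1 = n := by
  let π : MvPolynomial (Fin n) K →+* Synt.RelGCIRing K n c f := Ideal.Quotient.mk _
  let q : Ideal (Synt.RelGCIRing K n c f) := RingHom.ker χ.toRingHom
  haveI hqmax : q.IsMaximal := isMaximal_ker χ
  haveI : Nontrivial (Synt.RelGCIRing K n c f) := PrimeSpectrum.nonempty_iff_nontrivial.1 ⟨⟨q, inferInstance⟩⟩
  haveI : (q.comap π).IsMaximal := Ideal.comap_isMaximal_of_surjective π Ideal.Quotient.mk_surjective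
  have hG : Synt29.mapPoly K f K = f := funext fun i => by simp [Synt29.mapPoly, MvPolynomial.map_id]
  let p₀ : PrimeSpectrum K := ⟨⊥, Ideal.isPrime_bot⟩
  let k₀ := p₀.asIdeal.ResidueField
  haveI : Nontrivial (Synt.RelGCIRing K n c (Synt29.mapPoly K f K)) := by rw [hG]; infer_instance
  have hdk := Synt29.ringKrullDim_mapPoly f K k₀
  have hn₀ : Nontrivial (Synt.RelGCIRing k₀ n c (Synt29.mapPoly K f k₀)) := by
    by_contra hs
    rw [not_nontrivial_iff_subsingleton] at hs
    rw [ringKrullDim_eq_bot_of_subsingleton] at hdk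
    have h0 := ringKrullDim_nonneg_of_nontrivial (R := Synt.RelGCIRing K n c (Synt29.mapPoly K f K))
    rw [← hdk] at h0
    exact absurd h0 (not_le.2 (WithBot.bot_lt_coe 0))
  obtain ⟨hcn, hd⟩ := (Synt29.isRelGCI_iff K f).1 hrel p₀ hn₀
  rw [hdk] at hd
  have h1 : (n : ℕ∞) ≤ q.height + c := by
    have hsf : (Ideal.span (Set.range f)).spanFinrank ≤ c := by
      refine (Submodule.spanFinrank_span_le_ncard_of_finite (Set.finite_range f)).trans ?_
      rw [← Set.image_univ]
      exact (Set.ncard_image_le Set.finite_univ).trans (by simp)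
    have hle : Ideal.span (Set.range f) ≤ q.comap π := fun x hx => by
      show π x ∈ q
      rw [show π x = 0 from Ideal.Quotient.eq_zero_iff_mem.2 hx]
      exact zero_mem _
    have h := Ideal.height_le_height_add_spanFinrank_of_le hle
    rw [height_polynomial_max, Ideal.map_comap_of_surjective π Ideal.Quotient.mk_surjective] at h
    exact h.trans (add_le_add_right (Nat.cast_le.2 hsf) _)
  have h2 : q.height ≤ 1 := by
    refine le_of_eq_of_le ?_ (height_le_one_of_isQuadNode hq)
    have e1 := IsLocalization.AtPrime.ringKrullDim_eq_height q (Localization.AtPrime q)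
    have e2 := IsLocalRing.maximalIdeal_height_eq_ringKrullDim (R := Localization.AtPrime q)
    exact WithBot.coe_injective (e1.symm.trans e2.symm)
  have h3 : n ≤ c + 1 := by
    have h4 : (n : ℕ∞) ≤ ((c + 1 : ℕ) : ℕ∞) := by
      push_cast
      exact h1.trans (add_le_add h2 le_rfl) |>.trans_eq (add_comm _ _)
    exact_mod_cast h4
  obtain ⟨-, ⟨r, hr, hr0⟩, -⟩ := hq
  have h5 : ringKrullDim (Synt.RelGCIRing K n c f) ≤ ((n - c : ℕ) : WithBot ℕ∞) := by
    rw [hG] at hd; exact hd
  by_contra hne
  have hnc : n - c = 0 := by omega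
  haveI : Ring.KrullDimLE 0 (Synt.RelGCIRing K n c f) := Ring.KrullDimLE.mk₀ fun p hp => by
    rw [hnc, Nat.cast_zero] at h5
    exact (Ring.krullDimLE_zero_iff.1 ((Ring.krullDimLE_iff).2 h5)) p hp
  haveI : IsArtinianRing (Synt.RelGCIRing K n c f) := IsNoetherianRing.isArtinianRing_of_krullDimLE_zero
  haveI : IsArtinianRing (Localization.AtPrime q) := IsArtinianRing.localization_artinian q.primeCompl _
  exact ((mem_maximalIdeal r).1 hr) (IsArtinianRing.isUnit_of_mem_nonZeroDivisors hr0)

/-- Points where a minor of full size is invertible are smooth points. -/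
theorem isSmoothAt_of_minor {R : Type u} [CommRing R] {F : Fin c → MvPolynomial (Fin n) R} (col : Fin c → Fin n)
    (hcol : Function.Injective col) (q : PrimeSpectrum (Synt.RelGCIRing R n c F))
    (hq : Ideal.Quotient.mk _ ((Matrix.of fun i j => pderiv j (F i)).submatrix id col).det ∉ q.asIdeal) :
    Algebra.IsSmoothAt R q.asIdeal := by
  classical
  let P₀ : Algebra.PreSubmersivePresentation R (Synt.RelGCIRing R n c F) (Fin n) (Fin c) :=
    Algebra.PreSubmersivePresentation.naive (v := F) col hcol
  set d : Synt.RelGCIRing R n c F :=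
    Ideal.Quotient.mk _ ((Matrix.of fun i j => pderiv j (F i)).submatrix id col).det with hd
  have hjac : P₀.jacobian = d := by
    rw [Algebra.PreSubmersivePresentation.jacobian_eq_jacobiMatrix_det, hd, ← Matrix.det_transpose]
    have : P₀.jacobiMatrix = ((Matrix.of fun i j => pderiv j (F i)).submatrix id col)ᵀ := by
      ext i j
      simp [P₀, Algebra.PreSubmersivePresentation.jacobiMatrix_naive]
    rw [this, Matrix.det_transpose, Matrix.det_transpose, Algebra.Generators.algebraMap_apply]
    exact (AlgHom.congr_fun (aeval_unique (Ideal.Quotient.mkₐ R (Ideal.span (Set.range F)))) _).symm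
  let P := (Algebra.PreSubmersivePresentation.localizationAway (Localization.Away d) d).comp P₀
  have hP : IsUnit P.jacobian := by
    rw [Algebra.PreSubmersivePresentation.comp_jacobian_eq_jacobian_smul_jacobian, Algebra.smul_def,
      Algebra.PreSubmersivePresentation.localizationAway_jacobian, hjac]
    exact (IsLocalization.Away.algebraMap_isUnit _).mul (IsLocalization.Away.algebraMap_isUnit _)
  haveI := Algebra.SubmersivePresentation.isStandardSmooth ⟨P, hP⟩
  haveI : Algebra.Smooth R (Localization.Away d) := inferInstance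
  haveI : Algebra.FinitePresentation R (Synt.RelGCIRing R n c F) :=
    Algebra.FinitePresentation.quotient (Submodule.fg_span (Set.finite_range F))
  exact Algebra.basicOpen_subset_smoothLocus_iff_smooth.2 inferInstance hq

end Groth.Agent.CStk17.NodeOpen
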