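import Groth.Agent.CStk17.NodeOpen.Alg
import Groth.Agent.NodeAlg15.Fam
import Groth.Agent.Synt29.LocalRelGCI
import Mathlib.AlgebraicGeometry.Fiber

/-!
# Nodes near a node on a relative global complete intersection
-/

set_option autoImplicit false
set_option backward.isDefEq.respectTransparency false
set_option backward.isDefEq.respectTransparency.types false
set_option linter.style.haveILetI false

universe u

open CategoryTheory CategoryTheory.Limits AlgebraicGeometry IsLocalRing MvPolynomial TensorProduct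

namespace Groth.Agent.CStk17.NodeOpen

open NodeAlg15 (IsQuadNode)

/-- The point is a node of its fibre. -/
def NodeAt {X S : Scheme.{u}} (g : X ⟶ S) (x : X) : Prop :=
  NodeSch.IsNodeOf (g.fiberToSpecResidueField (g x)) (g.asFiber x)

/-- Nodes of schemes over algebraically closed fields. -/
theorem isNodeOf_iff_isQuadNode {Ω : Type u} [Field Ω] [IsAlgClosed Ω] {Z : Scheme.{u}}
    (r : Z ⟶ Spec (CommRingCat.of Ω)) [LocallyOfFiniteType r] {z : Z} (hz : IsClosed ({z} : Set Z)) :
    NodeSch.IsNodeOf r z ↔ IsQuadNode (Z.presheaf.stalk z) := by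
  letI : Z.Over (Spec (CommRingCat.of Ω)) := ⟨r⟩
  haveI : LocallyOfFiniteType (Z ↘ Spec (CommRingCat.of Ω)) := ‹LocallyOfFiniteType r›
  letI := Curv2.stalkAlgebra Ω Z z
  have hsep : Algebra.IsSeparable Ω (ResidueField (Z.presheaf.stalk z)) := by
    refine AlgEquiv.Algebra.isSeparable (AlgEquiv.ofBijective (Algebra.ofId Ω (ResidueField (Z.presheaf.stalk z)))
      ⟨RingHom.injective _, fun x => ?_⟩)
    obtain ⟨a, rfl⟩ := IsLocalRing.residue_surjective x
    obtain ⟨t, ht⟩ := SchPt.residue_surjective r hz a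
    exact ⟨t, (Ideal.Quotient.eq.2 ht).symm⟩
  exact (NodeAlg15.Geom.isNode_iff (k := Ω) z).trans ⟨fun h => h.2.2, fun h => ⟨hz, hsep, h⟩⟩

section

variable {R : Type u} [CommRing R] {n c : ℕ} (F : Fin c → MvPolynomial (Fin n) R)
variable {Ω : Type u} [Field Ω] (χ : Synt.RelGCIRing R n c F →+* Ω)

/-- The equations over the field of a point. -/
noncomputable def ptEqs (i : Fin c) : MvPolynomial (Fin n) Ω :=
  MvPolynomial.map (χ.comp (algebraMap R (Synt.RelGCIRing R n c F))) (F i)

/-- The coordinates of a point. -/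
noncomputable def ptCoord (j : Fin n) : Ω := χ (Ideal.Quotient.mk _ (X j))

theorem eval_map_pt (p : MvPolynomial (Fin n) R) :
    eval (ptCoord F χ) (MvPolynomial.map (χ.comp (algebraMap R (Synt.RelGCIRing R n c F))) p) =
      χ (Ideal.Quotient.mk _ p) := by
  induction p using MvPolynomial.induction_on with
  | C r => rw [MvPolynomial.map_C, eval_C]; rfl
  | add p q hp hq => rw [map_add, map_add, map_add, map_add, hp, hq]
  | mul_X p i hp => rw [map_mul, map_mul, map_mul, map_mul, hp, MvPolynomial.map_X, eval_X, ptCoord]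

/-- The rational point of the base change. -/
noncomputable def ptHom : Synt.RelGCIRing Ω n c (ptEqs F χ) →ₐ[Ω] Ω :=
  Ideal.Quotient.liftₐ _ (aeval (ptCoord F χ)) (by
    intro p hp
    have hle : Ideal.span (Set.range (ptEqs F χ)) ≤ RingHom.ker (aeval (R := Ω) (ptCoord F χ)).toRingHom := by
      rw [Ideal.span_le]; rintro _ ⟨i, rfl⟩
      show aeval (ptCoord F χ) (ptEqs F χ i) = 0
      rw [aeval_eq_eval]
      rw [ptEqs, eval_map_pt, Ideal.Quotient.eq_zero_iff_mem.2 (Ideal.subset_span (Set.mem_range_self i)), map_zero]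
    exact hle hp)

theorem coordOf_ptHom : coordOf (ptHom F χ) = ptCoord F χ := funext fun j => aeval_X _ j

theorem jacAt_ptEqs (i : Fin c) (j : Fin n) :
    jacAt (ptEqs F χ) (ptCoord F χ) i j = χ (Ideal.Quotient.mk _ (pderiv j (F i))) := by
  rw [jacAt, Matrix.of_apply, ptEqs, pderiv_map, eval_map_pt]

theorem hessAt_ptEqs (i : Fin c) :
    hessAt (ptEqs F χ) (ptCoord F χ) i = (hessM (F i)).map fun p => χ (Ideal.Quotient.mk _ p) := by
  ext a b
  simp only [hessAt, hessM, Matrix.map_apply, Matrix.of_apply, ptEqs, pderiv_map, eval_map_pt]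

theorem isRelGCI_ptEqs (hF : Synt.IsRelGCI R n c F) : Synt.IsRelGCI Ω n c (ptEqs F χ) := by
  letI := (χ.comp (algebraMap R (Synt.RelGCIRing R n c F))).toAlgebra
  have he : Synt29.mapPoly R F Ω = ptEqs F χ := rfl
  rw [← he]
  exact Synt29.isRelGCI_mapPoly (R' := Ω) hF

/-- The base change of the presentation to the field of a point. -/
theorem exists_ptSquare : ∃ ψ : Synt.RelGCIRing R n c F →+* Synt.RelGCIRing Ω n c (ptEqs F χ),
    (ptHom F χ).toRingHom.comp ψ = χ ∧
    IsPushout (CommRingCat.ofHom (χ.comp (algebraMap R (Synt.RelGCIRing R n c F))))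
      (CommRingCat.ofHom (algebraMap R (Synt.RelGCIRing R n c F)))
      (CommRingCat.ofHom (algebraMap Ω (Synt.RelGCIRing Ω n c (ptEqs F χ)))) (CommRingCat.ofHom ψ) := by
  let κ₀ : R →+* Ω := χ.comp (algebraMap R (Synt.RelGCIRing R n c F))
  letI : Algebra R Ω := κ₀.toAlgebra
  let e : Ω ⊗[R] Synt.RelGCIRing R n c F ≃ₐ[Ω] Synt.RelGCIRing Ω n c (ptEqs F χ) := Synt29.baseChangeEquiv R F Ω
  let ψ : Synt.RelGCIRing R n c F →+* Synt.RelGCIRing Ω n c (ptEqs F χ) :=
    e.toRingHom.comp (Algebra.TensorProduct.includeRight (R := R) (A := Ω) (B := Synt.RelGCIRing R n c F)).toRingHom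
  have hψ : ∀ p, ψ (Ideal.Quotient.mk _ p) = Ideal.Quotient.mk _ (MvPolynomial.map κ₀ p) := fun p => by
    refine e.symm.injective ?_
    show e.symm (e _) = _
    rw [e.symm_apply_apply]
    exact (Synt29.baseChangeEquiv_symm_mk_map F Ω p).symm
  refine ⟨ψ, Ideal.Quotient.ringHom_ext (RingHom.ext fun p => ?_), ?_⟩
  · simp only [RingHom.comp_apply]
    rw [hψ]
    show aeval (ptCoord F χ) (MvPolynomial.map κ₀ p) = _
    rw [aeval_eq_eval]
    exact eval_map_pt F χ p
  · refine (CommRingCat.isPushout_tensorProduct R Ω (Synt.RelGCIRing R n c F)).of_iso (Iso.refl _) (Iso.refl _)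
      (Iso.refl _) e.toRingEquiv.toCommRingCatIso ?_ ?_ ?_ ?_
    · simp only [Iso.refl_hom, Category.comp_id, Category.id_comp]; rfl
    · simp only [Iso.refl_hom, Category.comp_id, Category.id_comp]
    · simp only [Iso.refl_hom, Category.id_comp]
      exact CommRingCat.hom_ext (RingHom.ext fun a => e.commutes a)
    · simp only [Iso.refl_hom, Category.id_comp]
      rfl

end

/-- Nodes of fibres seen on a geometric fibre. -/
theorem nodeAt_iff_of_isPullback {X S Z : Scheme.{u}} (g : X ⟶ S) [LocallyOfFiniteType g] {Ω : Type u} [Field Ω]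
    (t : Spec (CommRingCat.of Ω) ⟶ S) (fst : Z ⟶ X) (r : Z ⟶ Spec (CommRingCat.of Ω)) (hsq : IsPullback fst r g t)
    (z : Z) (hz : IsClosed ({z} : Set Z)) : NodeAt g (fst z) ↔ NodeSch.IsNodeOf r z := by
  have hts : t (closedPoint Ω) = g (fst z) := by
    haveI : Subsingleton ↥(Spec (CommRingCat.of Ω)) := inferInstanceAs (Subsingleton (PrimeSpectrum Ω))
    rw [← Scheme.Hom.comp_apply, hsq.w, Scheme.Hom.comp_apply]
    exact congrArg t (Subsingleton.elim _ _)
  have key : ∀ s : S, s = g (fst z) → ∀ φ : S.residueField s ⟶ CommRingCat.of Ω,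
      Spec.map φ ≫ S.fromSpecResidueField s = t → ∀ w : g.fiber s, g.fiberι s w = fst z →
      (NodeSch.IsNodeOf (g.fiberToSpecResidueField s) w ↔ NodeSch.IsNodeOf r z) := by
    intro s _ φ hφ w hw
    haveI : LocallyOfFiniteType (g.fiberToSpecResidueField s) :=
      MorphismProperty.pullback_snd _ _ ‹LocallyOfFiniteType g›
    let m : Z ⟶ g.fiber s := pullback.lift fst (r ≫ Spec.map φ) (by rw [Category.assoc, hφ]; exact hsq.w)
    have hmf : m ≫ pullback.fst g (S.fromSpecResidueField s) = fst := pullback.lift_fst _ _ _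
    have sq : IsPullback m r (g.fiberToSpecResidueField s) (Spec.map (CommRingCat.ofHom φ.hom)) := by
      refine IsPullback.of_right ?_ (pullback.lift_snd _ _ _) (IsPullback.of_hasPullback g (S.fromSpecResidueField s))
      rw [CommRingCat.ofHom_hom, hφ, hmf]
      exact hsq
    have hmz : m z = w := (g.fiberι s).isEmbedding.injective (by
      rw [hw, ← Scheme.Hom.comp_apply]
      exact congrArg (fun q : Z ⟶ X => q z) hmf)
    constructor
    · intro h
      exact NodeSch.isNodeOf_bc (g.fiberToSpecResidueField s) φ.hom m r sq hz (hmz ▸ h)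
    · intro h
      exact hmz ▸ NodeAlg15.Fam.isNodeOf_of_bc (g.fiberToSpecResidueField s) φ.hom sq h
  obtain ⟨φ, hφ⟩ : ∃ φ : S.residueField (g (fst z)) ⟶ CommRingCat.of Ω,
      Spec.map φ ≫ S.fromSpecResidueField (g (fst z)) = t := by
    rw [← hts]
    exact ⟨_, Scheme.descResidueField_stalkClosedPointTo_fromSpecResidueField Ω S t⟩
  exact key _ rfl φ hφ _ (g.fiberι_asFiber _)

theorem isQuadNode_stalk_iff {P : Type u} [CommRing P] [IsNoetherianRing P] (q : PrimeSpectrum P) :
    IsQuadNode ((Spec (CommRingCat.of P)).presheaf.stalk q) ↔ IsQuadNode (Localization.AtPrime q.asIdeal) := by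
  haveI : IsNoetherianRing (Localization.AtPrime q.asIdeal) := IsLocalization.isNoetherianRing q.asIdeal.primeCompl _ inferInstance
  let e : (Spec (CommRingCat.of P)).presheaf.stalk q ≃+* Localization.AtPrime q.asIdeal :=
    (Spec.stalkIso (CommRingCat.of P) q).commRingCatIsoToRingEquiv
  haveI : IsNoetherianRing ((Spec (CommRingCat.of P)).presheaf.stalk q) := isNoetherianRing_of_ringEquiv _ e.symm
  exact ⟨NodeAlg15.isQuadNode_of_ringEquiv e, NodeAlg15.isQuadNode_of_ringEquiv e.symm⟩

section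

variable {R : Type u} [CommRing R] {n c : ℕ} (F : Fin c → MvPolynomial (Fin n) R)
variable {Ω : Type u} [Field Ω] (χ : Synt.RelGCIRing R n c F →+* Ω)

theorem lft_relGCI {A : Type u} [CommRing A] (G : Fin c → MvPolynomial (Fin n) A) :
    LocallyOfFiniteType (Spec.map (CommRingCat.ofHom (algebraMap A (Synt.RelGCIRing A n c G)))) :=
  (HasRingHomProperty.Spec_iff (P := @LocallyOfFiniteType)).2 (RingHom.finiteType_algebraMap.2
    (Algebra.FiniteType.of_surjective (Ideal.Quotient.mkₐ A _) Ideal.Quotient.mk_surjective))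

/-- A node of the fibre at a point is a quadratic node of the rational point over it, for any algebraically closed
field. -/
theorem nodeAt_iff [IsAlgClosed Ω] (y : ↥(Spec (CommRingCat.of (Synt.RelGCIRing R n c F))))
    (hy : RingHom.ker χ = (show PrimeSpectrum (Synt.RelGCIRing R n c F) from y).asIdeal) :
    NodeAt (Spec.map (CommRingCat.ofHom (algebraMap R (Synt.RelGCIRing R n c F)))) y ↔
      (letI := (isMaximal_ker (ptHom F χ)).isPrime
      IsQuadNode (Localization.AtPrime (RingHom.ker (ptHom F χ).toRingHom))) := by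
  haveI := isMaximal_ker (ptHom F χ)
  obtain ⟨ψ, hχψ, hpo⟩ := exists_ptSquare F χ
  have hsq := isPullback_SpecMap_of_isPushout _ _ _ _ hpo.flip
  let z : ↥(Spec (CommRingCat.of (Synt.RelGCIRing Ω n c (ptEqs F χ)))) :=
    (⟨RingHom.ker (ptHom F χ).toRingHom, inferInstance⟩ : PrimeSpectrum (Synt.RelGCIRing Ω n c (ptEqs F χ)))
  have hzc : IsClosed ({z} : Set ↥(Spec (CommRingCat.of (Synt.RelGCIRing Ω n c (ptEqs F χ))))) :=
    (PrimeSpectrum.isClosed_singleton_iff_isMaximal _).2 (isMaximal_ker (ptHom F χ))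
  have hzy : Spec.map (CommRingCat.ofHom ψ) z = y := by
    refine PrimeSpectrum.ext ?_
    show (RingHom.ker (ptHom F χ).toRingHom).comap ψ = _
    rw [RingHom.comap_ker, hχψ, hy]
  haveI := lft_relGCI F
  haveI := lft_relGCI (ptEqs F χ)
  haveI : IsLocallyNoetherian (Spec (CommRingCat.of (Synt.RelGCIRing Ω n c (ptEqs F χ)))) :=
    LocallyOfFiniteType.isLocallyNoetherian
      (Spec.map (CommRingCat.ofHom (algebraMap Ω (Synt.RelGCIRing Ω n c (ptEqs F χ)))))
  rw [← hzy, nodeAt_iff_of_isPullback _ _ _ _ hsq z hzc, isNodeOf_iff_isQuadNode _ hzc]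
  exact isQuadNode_stalk_iff (P := Synt.RelGCIRing Ω n c (ptEqs F χ)) ⟨RingHom.ker (ptHom F χ).toRingHom, inferInstance⟩

theorem chi_crit {m : ℕ} (G : Fin c → MvPolynomial (Fin (m + 2)) R) (χ' : Synt.RelGCIRing R (m + 2) c G →+* Ω)
    (σ : Sel m c) :
    χ' (Ideal.Quotient.mk _ (σ.crit (Matrix.of fun i j => pderiv j (G i)) fun i => hessM (G i))) =
      σ.crit (jacAt (ptEqs G χ') (ptCoord G χ')) (hessAt (ptEqs G χ') (ptCoord G χ')) := by
  let φ : MvPolynomial (Fin (m + 2)) R →+* Ω := χ'.comp (Ideal.Quotient.mk _)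
  show φ _ = _
  rw [σ.map_crit]
  congr 1
  · exact Matrix.ext fun i j => (jacAt_ptEqs G χ' i j).symm
  · exact funext fun i => (hessAt_ptEqs G χ' i).symm

end

instance lfp_relGCI {R : Type u} [CommRing R] {n c : ℕ} (F : Fin c → MvPolynomial (Fin n) R) :
    LocallyOfFinitePresentation (Spec.map (CommRingCat.ofHom (algebraMap R (Synt.RelGCIRing R n c F)))) :=
  (HasRingHomProperty.Spec_iff (P := @LocallyOfFinitePresentation)).2
    (RingHom.finitePresentation_algebraMap.2
      (Algebra.FinitePresentation.quotient (Submodule.fg_span (Set.finite_range F))))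

set_option synthInstance.maxHeartbeats 400000 in
/-- Near a node of a relative global complete intersection all points are smooth or nodes. -/
theorem exists_nhd_node {R : Type u} [CommRing R] {n c : ℕ} {F : Fin c → MvPolynomial (Fin n) R}
    (hF : Synt.IsRelGCI R n c F) (y : ↥(Spec (CommRingCat.of (Synt.RelGCIRing R n c F))))
    (hy : NodeAt (Spec.map (CommRingCat.ofHom (algebraMap R (Synt.RelGCIRing R n c F)))) y) :
    ∃ U : (Spec (CommRingCat.of (Synt.RelGCIRing R n c F))).Opens, y ∈ U ∧ n = c + 1 ∧ ∀ y' ∈ U,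
      y' ∈ (Spec.map (CommRingCat.ofHom (algebraMap R (Synt.RelGCIRing R n c F)))).smoothLocus ∨
        NodeAt (Spec.map (CommRingCat.ofHom (algebraMap R (Synt.RelGCIRing R n c F)))) y' := by
  let P := Synt.RelGCIRing R n c F
  have hpt : ∀ w : PrimeSpectrum P, ∃ (Ω : Type u) (_ : Field Ω) (_ : IsAlgClosed Ω) (χ : P →+* Ω),
      RingHom.ker χ = w.asIdeal := fun w => by
    refine ⟨AlgebraicClosure w.asIdeal.ResidueField, inferInstance, inferInstance,
      (algebraMap w.asIdeal.ResidueField _).comp (algebraMap P w.asIdeal.ResidueField), ?_⟩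
    rw [← RingHom.comap_ker, (RingHom.injective_iff_ker_eq_bot
      (algebraMap w.asIdeal.ResidueField (AlgebraicClosure w.asIdeal.ResidueField))).1 (RingHom.injective _),
      ← RingHom.ker_eq_comap_bot, Ideal.ker_algebraMap_residueField]
  obtain ⟨Ω, _, _, χ, hχ⟩ := hpt y
  haveI := isMaximal_ker (ptHom F χ)
  have hq := (nodeAt_iff F χ y hχ).1 hy
  have hn := (card_add_one_eq (isRelGCI_ptEqs F χ hF) (ptHom F χ) hq).symm
  subst hn
  obtain ⟨D⟩ := nonempty_ptRing (ptHom F χ)
  rw [coordOf_ptHom] at D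
  haveI : IsNoetherianRing (Localization.AtPrime (RingHom.ker (ptHom F χ).toRingHom)) :=
    IsLocalization.isNoetherianRing (RingHom.ker (ptHom F χ).toRingHom).primeCompl _ inferInstance
  obtain ⟨m, rfl⟩ := Nat.exists_eq_succ_of_ne_zero (D.ne_zero_of_isQuadNode hq)
  obtain ⟨σ, hσ⟩ := D.exists_sel hq
  let h : P := Ideal.Quotient.mk _ (σ.crit (Matrix.of fun i j => pderiv j (F i)) fun i => hessM (F i))
  refine ⟨PrimeSpectrum.basicOpen h, ?_, rfl, fun y' hy' => ?_⟩
  · show h ∉ (show PrimeSpectrum P from y).asIdeal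
    rw [← hχ, RingHom.mem_ker]
    exact fun h0 => hσ ((chi_crit F χ σ).symm.trans h0)
  obtain ⟨Ω', _, _, χ', hχ'⟩ := hpt y'
  have hcrit : σ.crit (jacAt (ptEqs F χ') (ptCoord F χ')) (hessAt (ptEqs F χ') (ptCoord F χ')) ≠ 0 := by
    rw [← chi_crit F χ' σ]
    intro h0
    have : h ∈ (show PrimeSpectrum P from y').asIdeal := hχ' ▸ h0
    exact hy' this
  by_cases hl : Matrix.vecMul (σ.lam (jacAt (ptEqs F χ') (ptCoord F χ'))) (jacAt (ptEqs F χ') (ptCoord F χ')) = 0
  · haveI := isMaximal_ker (ptHom F χ')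
    haveI : IsNoetherianRing (Localization.AtPrime (RingHom.ker (ptHom F χ').toRingHom)) :=
      IsLocalization.isNoetherianRing (RingHom.ker (ptHom F χ').toRingHom).primeCompl _ inferInstance
    obtain ⟨D'⟩ := nonempty_ptRing (ptHom F χ')
    rw [coordOf_ptHom] at D'
    exact Or.inr ((nodeAt_iff F χ' y' hχ').2 (D'.isQuadNode σ hcrit hl
      (exists_nzd (ptHom F χ') (isRelGCI_ptEqs F χ' hF) (Nat.lt_succ_self _))))
  · left
    obtain ⟨j, hj⟩ := Function.ne_iff.1 hl
    obtain ⟨col, hcol⟩ := σ.exists_full_minor _ (left_ne_zero_of_mul hcrit) hj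
    have hinj : Function.Injective col := fun a b hab => by
      by_contra hne
      exact hcol (Matrix.det_zero_of_column_eq hne fun k => by simp [hab])
    haveI : Algebra.FinitePresentation R P :=
      Algebra.FinitePresentation.quotient (Submodule.fg_span (Set.finite_range F))
    haveI : LocallyOfFinitePresentation (Spec.map (CommRingCat.ofHom (algebraMap R P))) :=
      (HasRingHomProperty.Spec_iff (P := @LocallyOfFinitePresentation)).2
        (RingHom.finitePresentation_algebraMap.2 ‹_›)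
    refine (MorLib.SmoothLoc.sm_Spec_iff (show PrimeSpectrum P from y')).2 (isSmoothAt_of_minor col hinj _ ?_)
    rw [← hχ', RingHom.mem_ker]
    intro h0
    refine hcol (Eq.trans ?_ h0)
    show _ = (χ'.comp (Ideal.Quotient.mk _)) _
    rw [RingHom.map_det]
    congr 1
    exact Matrix.ext fun i k => jacAt_ptEqs F χ' i (col k)

end Groth.Agent.CStk17.NodeOpen
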