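import Mathlib

/-!
# The critical invariant of a Jacobian matrix with a family of Hessians
-/

set_option autoImplicit false
set_option backward.isDefEq.respectTransparency.types false

universe u

open Matrix

namespace Groth.Agent.CStk17.NodeOpen

/-- A choice of `m` rows, one extra row and `m` columns. -/
structure Sel (m c : ℕ) where
  /-- the rows -/
  e : Fin c ≃ Option (Fin m)
  /-- the columns -/
  S : Fin m → Fin (m + 2)

namespace Sel

variable {m c : ℕ} (σ : Sel m c)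

/-- The chosen rows. -/
def r (l : Fin m) : Fin c := σ.e.symm (some l)

/-- The extra row. -/
def i₀ : Fin c := σ.e.symm none

theorem sum_rows {M : Type*} [AddCommMonoid M] (g : Fin c → M) : ∑ i, g i = g σ.i₀ + ∑ l, g (σ.r l) := by
  rw [← σ.e.symm.sum_comp g, Fintype.sum_option]; rfl

section Ring

variable {R : Type u} [CommRing R] (J : Matrix (Fin c) (Fin (m + 2)) R)
  (H : Fin c → Matrix (Fin (m + 2)) (Fin (m + 2)) R)

/-- The chosen rows of the matrix. -/
def rowsMat : Matrix (Fin m) (Fin (m + 2)) R := J.submatrix σ.r id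

/-- The chosen minor. -/
noncomputable def dlt : R := ((σ.rowsMat J).submatrix id σ.S).det

/-- The multipliers of the chosen rows. -/
noncomputable def mu : Fin m → R :=
  (fun l => J σ.i₀ (σ.S l)) ᵥ* ((σ.rowsMat J).submatrix id σ.S).adjugate

/-- The Lagrange multipliers. -/
noncomputable def lam (i : Fin c) : R := (σ.e i).elim (σ.dlt J) fun l => - σ.mu J l

/-- The bordered Hessian. -/
noncomputable def bord : Matrix (Fin (m + 2) ⊕ Fin m) (Fin (m + 2) ⊕ Fin m) R :=
  fromBlocks (∑ i, σ.lam J i • H i) (σ.rowsMat J)ᵀ (σ.rowsMat J) 0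

/-- The critical invariant. -/
noncomputable def crit : R := σ.dlt J * (σ.bord J H).det

@[simp] theorem lam_i₀ : σ.lam J σ.i₀ = σ.dlt J := by simp [lam, i₀]

@[simp] theorem lam_r (l : Fin m) : σ.lam J (σ.r l) = - σ.mu J l := by simp [lam, r]

variable {S' : Type u} [CommRing S'] (φ : R →+* S')

theorem map_dlt : φ (σ.dlt J) = σ.dlt (J.map φ) := by
  rw [dlt, dlt, RingHom.map_det]; rfl

theorem map_mu (l : Fin m) : φ (σ.mu J l) = σ.mu (J.map φ) l := by
  have h : φ.mapMatrix ((σ.rowsMat J).submatrix id σ.S).adjugate =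
      ((σ.rowsMat (J.map φ)).submatrix id σ.S).adjugate := RingHom.map_adjugate φ _
  simp only [mu, Matrix.vecMul, dotProduct, map_sum, map_mul]
  exact Finset.sum_congr rfl fun k _ => by rw [← h]; rfl

theorem map_lam (i : Fin c) : φ (σ.lam J i) = σ.lam (J.map φ) i := by
  rcases h : σ.e i with _ | l
  · simp [lam, h, map_dlt]
  · simp [lam, h, map_mu]

theorem map_crit : φ (σ.crit J H) = σ.crit (J.map φ) fun i => (H i).map φ := by
  rw [crit, crit, map_mul, map_dlt, RingHom.map_det, bord, bord]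
  congr 2
  ext (i | i) (j | j) <;> simp [rowsMat, Matrix.sum_apply, map_lam]

theorem vecMul_mat_apply (j : Fin (m + 2)) :
    (σ.lam J ᵥ* J) j = σ.dlt J * J σ.i₀ j - ∑ l, σ.mu J l * J (σ.r l) j := by
  rw [Matrix.vecMul, dotProduct, σ.sum_rows]
  simp [sub_eq_add_neg]

theorem vecMul_col (l : Fin m) : (σ.lam J ᵥ* J) (σ.S l) = 0 := by
  rw [vecMul_mat_apply]
  have h : σ.mu J ᵥ* (σ.rowsMat J).submatrix id σ.S = σ.dlt J • fun l => J σ.i₀ (σ.S l) := by
    rw [mu, vecMul_vecMul, adjugate_mul, vecMul_smul, vecMul_one]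
    rfl
  have h2 := congrFun h l
  simp only [Matrix.vecMul, dotProduct, submatrix_apply, rowsMat, Pi.smul_apply, smul_eq_mul, id_eq] at h2
  rw [h2, sub_self]

end Ring

section Field

variable {K : Type u} [Field K] (J : Matrix (Fin c) (Fin (m + 2)) K)
  (H : Fin c → Matrix (Fin (m + 2)) (Fin (m + 2)) K)

/-- A splitting of the linearised equations. -/
theorem exists_split (h : σ.dlt J ≠ 0) :
    ∃ (W : Matrix (Fin (m + 2)) (Fin 2) K) (P : Matrix (Fin 2) (Fin (m + 2)) K)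
      (Rm : Matrix (Fin (m + 2)) (Fin m) K),
      σ.rowsMat J * Rm = 1 ∧ σ.rowsMat J * W = 0 ∧ W * P + Rm * σ.rowsMat J = 1 ∧ P * W = 1 := by
  classical
  let A := σ.rowsMat J
  let M := A.submatrix id σ.S
  have hM : IsUnit M.det := isUnit_iff_ne_zero.2 h
  let E : Matrix (Fin (m + 2)) (Fin m) K := Matrix.of fun i l => if σ.S l = i then 1 else 0
  have hAE : A * E = M := by
    ext i l
    simp [Matrix.mul_apply, E, M]
  let Rm := E * M⁻¹
  have hAR : A * Rm = 1 := by rw [← Matrix.mul_assoc, hAE, Matrix.mul_nonsing_inv _ hM]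
  let L := Matrix.toLin' A
  have hsurj : Function.Surjective L := fun v => ⟨Rm *ᵥ v, by simp [L, hAR]⟩
  have hker : Module.finrank K (LinearMap.ker L) = 2 := by
    have h1 := L.finrank_range_add_finrank_ker
    rw [LinearMap.range_eq_top.2 hsurj, finrank_top, Module.finrank_fin_fun, Module.finrank_fin_fun] at h1
    omega
  let b := Module.finBasisOfFinrankEq K (LinearMap.ker L) hker
  let Wl : (Fin 2 → K) →ₗ[K] (Fin (m + 2) → K) := (LinearMap.ker L).subtype ∘ₗ b.equivFun.symm.toLinearMap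
  let pr : (Fin (m + 2) → K) →ₗ[K] LinearMap.ker L :=
    (LinearMap.id - (Matrix.toLin' Rm) ∘ₗ L).codRestrict (LinearMap.ker L) fun v => by
      simp [L, LinearMap.mem_ker, Matrix.mulVec_sub, Matrix.mulVec_mulVec, ← Matrix.mul_assoc, hAR]
  let Pl : (Fin (m + 2) → K) →ₗ[K] (Fin 2 → K) := b.equivFun.toLinearMap ∘ₗ pr
  refine ⟨LinearMap.toMatrix' Wl, LinearMap.toMatrix' Pl, Rm, hAR, ?_, ?_, ?_⟩
  · apply Matrix.toLin'.injective
    rw [Matrix.toLin'_mul, Matrix.toLin'_toMatrix', map_zero]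
    exact LinearMap.ext fun s => LinearMap.mem_ker.1 (b.equivFun.symm s).2
  · apply Matrix.toLin'.injective
    rw [map_add, Matrix.toLin'_mul, Matrix.toLin'_mul, Matrix.toLin'_toMatrix', Matrix.toLin'_toMatrix',
      Matrix.toLin'_one]
    refine LinearMap.ext fun v => ?_
    show ((b.equivFun.symm (b.equivFun (pr v)) : LinearMap.ker L) : Fin (m + 2) → K) + Rm.toLin' (L v) = v
    rw [LinearEquiv.symm_apply_apply]
    exact sub_add_cancel v _
  · apply Matrix.toLin'.injective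
    rw [Matrix.toLin'_mul, Matrix.toLin'_toMatrix', Matrix.toLin'_toMatrix', Matrix.toLin'_one]
    refine LinearMap.ext fun s => ?_
    show b.equivFun (pr ((b.equivFun.symm s : LinearMap.ker L) : Fin (m + 2) → K)) = s
    rw [show pr ((b.equivFun.symm s : LinearMap.ker L) : Fin (m + 2) → K) = b.equivFun.symm s from
      Subtype.ext (show _ - Rm.toLin' (L _) = _ by
        rw [LinearMap.mem_ker.1 (b.equivFun.symm s).2, map_zero, sub_zero]; rfl), LinearEquiv.apply_symm_apply]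

theorem exists_full_minor (h : σ.dlt J ≠ 0) {j : Fin (m + 2)} (hj : (σ.lam J ᵥ* J) j ≠ 0) :
    ∃ col : Fin c → Fin (m + 2), (J.submatrix id col).det ≠ 0 := by
  refine ⟨fun i => (σ.e i).elim j σ.S, fun hdet => ?_⟩
  obtain ⟨y, hy0, hy⟩ := Matrix.exists_mulVec_eq_zero_iff.2 hdet
  have hA : ∀ i, J i j * y σ.i₀ + ∑ l, J i (σ.S l) * y (σ.r l) = 0 := fun i => by
    have := congrFun hy i
    rw [Matrix.mulVec, dotProduct, σ.sum_rows] at this
    simpa [Sel.i₀, Sel.r] using this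
  have h1 : (σ.lam J ᵥ* J) j * y σ.i₀ = 0 := by
    have h2 : ∑ i, σ.lam J i * (J i j * y σ.i₀ + ∑ l, J i (σ.S l) * y (σ.r l)) = 0 :=
      Finset.sum_eq_zero fun i _ => by rw [hA i, mul_zero]
    simp only [mul_add, Finset.sum_add_distrib, Finset.mul_sum] at h2
    rw [Finset.sum_comm (f := fun x i => σ.lam J x * (J x (σ.S i) * y (σ.r i)))] at h2
    have h3 : ∀ l, ∑ i, σ.lam J i * (J i (σ.S l) * y (σ.r l)) = 0 := fun l => by
      simp only [← mul_assoc, ← Finset.sum_mul]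
      rw [show ∑ i, σ.lam J i * J i (σ.S l) = (σ.lam J ᵥ* J) (σ.S l) from rfl, σ.vecMul_col, zero_mul]
    rw [Finset.sum_eq_zero (fun l _ => h3 l), add_zero] at h2
    rw [show (σ.lam J ᵥ* J) j = ∑ i, σ.lam J i * J i j from rfl, Finset.sum_mul]
    simpa only [mul_assoc] using h2
  have hi0 : y σ.i₀ = 0 := (mul_eq_zero.1 h1).resolve_left hj
  have hr : (fun l => y (σ.r l)) = 0 := by
    by_contra hne
    refine h (Matrix.exists_mulVec_eq_zero_iff.1 ⟨_, hne, funext fun l => ?_⟩)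
    simpa [hi0, rowsMat, Matrix.mulVec, dotProduct] using hA (σ.r l)
  refine hy0 (funext fun i => ?_)
  obtain ⟨o, rfl⟩ := σ.e.symm.surjective i
  rcases o with _ | l
  · exact hi0
  · exact congrFun hr l

variable {J}

/-- All rows vanish on the kernel of the chosen ones. -/
theorem mul_W_eq_zero (h : σ.dlt J ≠ 0) (hl : σ.lam J ᵥ* J = 0) {W : Matrix (Fin (m + 2)) (Fin 2) K}
    (hW : σ.rowsMat J * W = 0) : J * W = 0 := by
  ext i s
  obtain ⟨o, rfl⟩ := σ.e.symm.surjective i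
  rcases o with _ | l
  · have h0 : (σ.lam J ᵥ* (J * W)) s = 0 := by rw [← Matrix.vecMul_vecMul, hl, Matrix.zero_vecMul]; rfl
    rw [Matrix.vecMul, dotProduct, σ.sum_rows] at h0
    have hz : ∀ l, (J * W) (σ.r l) s = 0 := fun l => congrFun (congrFun hW l) s
    simp only [hz, mul_zero, Finset.sum_const_zero, add_zero, lam_i₀] at h0
    exact (mul_eq_zero.1 h0).resolve_left h
  · exact congrFun (congrFun hW l) s

theorem det_restrict_ne_zero_iff {W : Matrix (Fin (m + 2)) (Fin 2) K} {P : Matrix (Fin 2) (Fin (m + 2)) K}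
    {Rm : Matrix (Fin (m + 2)) (Fin m) K} (hR : σ.rowsMat J * Rm = 1) (hW : σ.rowsMat J * W = 0)
    (hid : W * P + Rm * σ.rowsMat J = 1) (hP : P * W = 1) :
    (Wᵀ * (∑ i, σ.lam J i • H i) * W).det ≠ 0 ↔ (σ.bord J H).det ≠ 0 := by
  set A := σ.rowsMat J with hA
  set G := ∑ i, σ.lam J i • H i with hG
  constructor
  · intro hB hdet
    obtain ⟨v, hv0, hv⟩ := Matrix.exists_mulVec_eq_zero_iff.2 hdet
    rw [bord, ← hG, ← hA, Matrix.fromBlocks_mulVec] at hv
    set x := v ∘ Sum.inl with hx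
    set y := v ∘ Sum.inr with hy
    have h1 : G *ᵥ x + Aᵀ *ᵥ y = 0 := funext fun i => congrFun hv (Sum.inl i)
    have h2 : A *ᵥ x = 0 := funext fun l => by simpa using congrFun hv (Sum.inr l)
    have hxW : W *ᵥ (P *ᵥ x) = x := by
      have := congrArg (· *ᵥ x) hid
      simpa [Matrix.add_mulVec, ← Matrix.mulVec_mulVec, h2] using this
    have h3 : (Wᵀ * G * W) *ᵥ (P *ᵥ x) = 0 := by
      have := congrArg (Wᵀ *ᵥ ·) h1
      have h4 : Wᵀ * Aᵀ = 0 := by rw [← Matrix.transpose_mul, hW, Matrix.transpose_zero]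
      rw [← Matrix.mulVec_mulVec, hxW, ← Matrix.mulVec_mulVec]
      simpa [Matrix.mulVec_add, Matrix.mulVec_mulVec, h4] using this
    have hx0 : x = 0 := by
      by_contra hne
      refine hB (Matrix.exists_mulVec_eq_zero_iff.1 ⟨P *ᵥ x, fun h0 => hne ?_, h3⟩)
      rw [← hxW, h0, Matrix.mulVec_zero]
    have hy0 : y = 0 := by
      rw [hx0, Matrix.mulVec_zero, zero_add] at h1
      have := congrArg (Rmᵀ *ᵥ ·) h1
      simpa [Matrix.mulVec_mulVec, ← Matrix.transpose_mul, hR] using this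
    refine hv0 (funext fun k => ?_)
    rcases k with i | l
    · exact congrFun hx0 i
    · exact congrFun hy0 l
  · intro hdet hB
    obtain ⟨s, hs0, hs⟩ := Matrix.exists_mulVec_eq_zero_iff.2 hB
    refine hdet (Matrix.exists_mulVec_eq_zero_iff.1 ⟨Sum.elim (W *ᵥ s) (- (Rmᵀ *ᵥ (G *ᵥ (W *ᵥ s)))), fun h0 => hs0 ?_, ?_⟩)
    · have h1 : W *ᵥ s = 0 := funext fun i => congrFun h0 (Sum.inl i)
      have := congrArg (P *ᵥ ·) h1
      simpa [Matrix.mulVec_mulVec, hP] using this
    · rw [bord, ← hG, ← hA, Matrix.fromBlocks_mulVec, Sum.elim_comp_inl, Sum.elim_comp_inr]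
      have h5 : A *ᵥ (W *ᵥ s) = 0 := by rw [Matrix.mulVec_mulVec, hW, Matrix.zero_mulVec]
      have h6 : G *ᵥ (W *ᵥ s) + Aᵀ *ᵥ -(Rmᵀ *ᵥ (G *ᵥ (W *ᵥ s))) = 0 := by
        have h7 : (Pᵀ * Wᵀ + Aᵀ * Rmᵀ) *ᵥ (G *ᵥ (W *ᵥ s)) = G *ᵥ (W *ᵥ s) := by
          rw [← Matrix.transpose_mul, ← Matrix.transpose_mul, ← Matrix.transpose_add, hid, Matrix.transpose_one,
            Matrix.one_mulVec]
        conv_lhs => arg 1; rw [← h7]
        rw [Matrix.add_mulVec, ← Matrix.mulVec_mulVec (M := Pᵀ),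
          show Wᵀ *ᵥ (G *ᵥ (W *ᵥ s)) = 0 by rw [Matrix.mulVec_mulVec, Matrix.mulVec_mulVec, hs],
          Matrix.mulVec_zero, zero_add, Matrix.mulVec_neg, Matrix.mulVec_mulVec (M := Aᵀ), add_neg_cancel]
      funext k
      rcases k with i | l
      · exact congrFun h6 i
      · simp [h5]

end Field

end Sel

end Groth.Agent.CStk17.NodeOpen
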