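import Groth.Agent.CStk17.NodeOpen.Taylor
import Groth.Agent.CStk17.NodeOpen.Crit
import Groth.Agent.NodeAlg15.Quad

/-!
# Nodes of rational points of zero loci in affine space
-/

set_option autoImplicit false
set_option backward.isDefEq.respectTransparency.types false
set_option linter.style.haveILetI false

universe u

open MvPolynomial Matrix IsLocalRing

namespace Groth.Agent.CStk17.NodeOpen

variable {K : Type u} [Field K] {n c : ℕ}

/-- The Jacobian at a point. -/
noncomputable def jacAt (f : Fin c → MvPolynomial (Fin n) K) (a : Fin n → K) : Matrix (Fin c) (Fin n) K :=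
  Matrix.of fun i j => eval a (pderiv j (f i))

/-- The Hessians at a point. -/
noncomputable def hessAt (f : Fin c → MvPolynomial (Fin n) K) (a : Fin n → K) (i : Fin c) :
    Matrix (Fin n) (Fin n) K := (hessM (f i)).map (eval a)

/-- The local ring at a rational point of the zero locus of `f`, characterised by its maps. -/
structure PtRing (f : Fin c → MvPolynomial (Fin n) K) (a : Fin n → K) (A : Type u) [CommRing A] [IsLocalRing A]
    [Algebra K A] where
  /-- the coordinates -/
  pr : MvPolynomial (Fin n) K →ₐ[K] A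
  span_eq : maximalIdeal A = Ideal.span (Set.range fun i => pr (X i) - algebraMap K A (a i))
  rel : ∀ i, pr (f i) = 0
  lift : ∀ (T : Type u) [CommRing T] [Algebra K T] (y : Fin n → T), (∀ i, IsNilpotent (y i)) →
    (∀ i, aeval (fun j => algebraMap K T (a j) + y j) (f i) = 0) →
      ∃ φ : A →ₐ[K] T, ∀ j, φ (pr (X j)) = algebraMap K T (a j) + y j
  res : ∀ x : A, ∃ k : K, x - algebraMap K A k ∈ maximalIdeal A

variable {f : Fin c → MvPolynomial (Fin n) K} {a : Fin n → K} {A : Type u} [CommRing A] [IsLocalRing A] [Algebra K A]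

namespace PtRing

variable (D : PtRing f a A)

/-- The centred coordinates. -/
noncomputable def Y (i : Fin n) : A := D.pr (X i) - algebraMap K A (a i)

theorem Y_mem (i : Fin n) : D.Y i ∈ maximalIdeal A := D.span_eq ▸ Ideal.subset_span ⟨i, rfl⟩

theorem aeval_Y (g : MvPolynomial (Fin n) K) : aeval (fun j => algebraMap K A (a j) + D.Y j) g = D.pr g := by
  rw [aeval_unique D.pr]
  congr 2
  funext j
  simp [Y]

include D in
theorem eval_eq_zero (i : Fin c) : eval a (f i) = 0 := by
  obtain ⟨Q, -, hQ⟩ := exists_taylor (f i) a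
  have h := hQ A (maximalIdeal A) D.Y D.Y_mem
  rw [D.aeval_Y, D.rel, zero_sub, neg_mem_iff] at h
  have h1 : algebraMap K A (eval a (f i)) ∈ maximalIdeal A := by
    have h3 : maximalIdeal A ^ 3 ≤ maximalIdeal A := Ideal.pow_le_self (by norm_num)
    have hr : ∑ j, algebraMap K A (eval a (pderiv j (f i))) * D.Y j + qval Q D.Y ∈ maximalIdeal A :=
      add_mem (Ideal.sum_mem _ fun j _ => Ideal.mul_mem_left _ _ (D.Y_mem j))
        (Ideal.pow_le_self two_ne_zero (qval_mem_sq Q _ _ D.Y_mem))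
    have := sub_mem (h3 h) hr
    rwa [add_assoc, add_sub_cancel_right] at this
  by_contra hne
  exact (mem_maximalIdeal _).1 h1 ((isUnit_iff_ne_zero.2 hne).map _)

include D in
/-- The expansion of an equation along nilpotent or small coordinates. -/
theorem exists_expand (i : Fin c) : ∃ Q : Matrix (Fin n) (Fin n) K, Q + Qᵀ = hessAt f a i ∧
    ∀ (T : Type u) [CommRing T] [Algebra K T] (N : Ideal T) (y : Fin n → T), (∀ j, y j ∈ N) →
      aeval (fun j => algebraMap K T (a j) + y j) (f i) -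
        (((jacAt f a).map (algebraMap K T) *ᵥ y) i + qval Q y) ∈ N ^ 3 := by
  obtain ⟨Q, hQ, hQ'⟩ := exists_taylor (f i) a
  refine ⟨Q, hQ, fun T _ _ N y hy => ?_⟩
  have h := hQ' T N y hy
  rw [D.eval_eq_zero i, map_zero, zero_add] at h
  exact h

theorem jac_mul_Y_mem (i : Fin c) : ((jacAt f a).map (algebraMap K A) *ᵥ D.Y) i ∈ maximalIdeal A ^ 2 := by
  obtain ⟨Q, -, hQ⟩ := D.exists_expand i
  have h := hQ A (maximalIdeal A) D.Y D.Y_mem
  rw [D.aeval_Y, D.rel, zero_sub, neg_mem_iff] at h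
  have h' := sub_mem (Ideal.pow_le_pow_right (show 2 ≤ 3 by norm_num) h) (qval_mem_sq Q _ _ D.Y_mem)
  rwa [add_sub_cancel_right] at h'

/-- Splitting the coordinates modulo the square of the maximal ideal. -/
theorem sub_mem_sq {d : ℕ} {c' : ℕ} (r : Fin c' → Fin c) (W : Matrix (Fin n) (Fin d) K) (P : Matrix (Fin d) (Fin n) K)
    (G : Matrix (Fin n) (Fin c') K) (hid : W * P + G * (jacAt f a).submatrix r id = 1) (j : Fin n) :
    D.Y j - (W.map (algebraMap K A) *ᵥ (P.map (algebraMap K A) *ᵥ D.Y)) j ∈ maximalIdeal A ^ 2 := by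
  let φ : K →+* A := algebraMap K A
  have h := congrFun (congrArg (fun M : Matrix (Fin n) (Fin n) K => M.map φ *ᵥ D.Y) hid) j
  simp only [Matrix.map_add φ (map_add φ), Matrix.map_mul, Matrix.map_one φ (map_zero φ) (map_one φ),
    Matrix.add_mulVec, Matrix.one_mulVec, ← Matrix.mulVec_mulVec, Pi.add_apply] at h
  refine (congrArg (· ∈ maximalIdeal A ^ 2) (eq_sub_of_add_eq' h)).mp ?_
  show ∑ l, (G.map φ) j l * (((jacAt f a).map φ) *ᵥ D.Y) (r l) ∈ _
  exact Ideal.sum_mem _ fun l _ => Ideal.mul_mem_left _ _ (D.jac_mul_Y_mem (r l))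

theorem span_eq_of_split [IsNoetherianRing A] {d : ℕ} {c' : ℕ} (r : Fin c' → Fin c) (W : Matrix (Fin n) (Fin d) K)
    (P : Matrix (Fin d) (Fin n) K) (G : Matrix (Fin n) (Fin c') K)
    (hid : W * P + G * (jacAt f a).submatrix r id = 1) :
    maximalIdeal A = Ideal.span (Set.range (P.map (algebraMap K A) *ᵥ D.Y)) := by
  set w := P.map (algebraMap K A) *ᵥ D.Y
  have hw : Ideal.span (Set.range w) ≤ maximalIdeal A := by
    rw [Ideal.span_le]; rintro _ ⟨k, rfl⟩
    show ∑ i, (P.map (algebraMap K A)) k i * D.Y i ∈ _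
    exact Ideal.sum_mem _ fun i _ => Ideal.mul_mem_left _ _ (D.Y_mem i)
  refine le_antisymm (Submodule.le_of_le_smul_of_le_jacobson_bot (IsNoetherian.noetherian _)
    (le_of_eq (IsLocalRing.jacobson_eq_maximalIdeal ⊥ bot_ne_top).symm) ?_) hw
  conv_lhs => rw [D.span_eq]
  rw [Ideal.span_le]
  rintro _ ⟨j, rfl⟩
  show D.pr (X j) - algebraMap K A (a j) ∈ _
  rw [smul_eq_mul, ← sq, show D.pr (X j) - algebraMap K A (a j) =
    (W.map (algebraMap K A) *ᵥ w) j + (D.Y j - (W.map (algebraMap K A) *ᵥ w) j) by simp [Y]]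
  exact Submodule.add_mem_sup (show ∑ k, (W.map (algebraMap K A)) j k * w k ∈ Ideal.span (Set.range w) from Ideal.sum_mem _ fun k _ => Ideal.mul_mem_left _ _ (Ideal.subset_span (Set.mem_range_self k)))
    (D.sub_mem_sq r W P G hid j)

/-- A first order curve through the point. -/
theorem exists_tangent {y : Fin n → K} (hy : jacAt f a *ᵥ y = 0) :
    ∃ φ : A →ₐ[K] Jet K 2, ∀ j, φ (D.Y j) = algebraMap K (Jet K 2) (y j) * jt K 2 := by
  let φK := algebraMap K (Jet K 2)
  obtain ⟨φ, hφ⟩ := D.lift (Jet K 2) (fun j => φK (y j) * jt K 2)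
    (fun j => ⟨2, by rw [mul_pow, jt_pow_self, mul_zero]⟩) fun i => by
      obtain ⟨Q, -, hQ⟩ := D.exists_expand i
      have h := hQ (Jet K 2) (Ideal.span {jt K 2}) (fun j => φK (y j) * jt K 2)
        (fun j => Ideal.mul_mem_left _ _ (Ideal.mem_span_singleton_self _))
      have h2 : Ideal.span {jt K 2} ^ 2 = ⊥ := span_jt_pow 2
      have hq := qval_mem_sq Q (fun j => φK (y j) * jt K 2) (Ideal.span {jt K 2})
        (fun j => Ideal.mul_mem_left _ _ (Ideal.mem_span_singleton_self _))
      rw [show Ideal.span {jt K 2} ^ 3 = (⊥ : Ideal (Jet K 2)) by rw [pow_succ (Ideal.span {jt K 2}) 2, h2, Ideal.bot_mul], Ideal.mem_bot,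
        sub_eq_zero] at h
      rw [h2, Ideal.mem_bot] at hq
      rw [h, hq, add_zero, Matrix.mulVec, dotProduct]
      have h0 : φK ((jacAt f a *ᵥ y) i) = 0 := by rw [hy]; exact map_zero _
      rw [Matrix.mulVec, dotProduct, map_sum] at h0
      simp only [φK, map_mul] at h0
      simp only [φK, Matrix.map_apply, ← mul_assoc, ← Finset.sum_mul]
      rw [h0, zero_mul]
  refine ⟨φ, fun j => ?_⟩
  rw [Y, map_sub, hφ, AlgHom.commutes, add_sub_cancel_left]

/-- The linear parts of elements of the maximal ideal. -/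
theorem exists_linPart {x : A} (hx : x ∈ maximalIdeal A) : ∃ ℓ : Fin n → K,
    x - ∑ j, algebraMap K A (ℓ j) * D.Y j ∈ maximalIdeal A ^ 2 := by
  rw [D.span_eq] at hx
  obtain ⟨g, rfl⟩ := Ideal.mem_span_range_iff_exists_fun.1 hx
  choose ℓ hℓ using fun j => D.res (g j)
  refine ⟨ℓ, ?_⟩
  rw [← Finset.sum_sub_distrib]
  refine Ideal.sum_mem _ fun j _ => ?_
  show g j * D.Y j - algebraMap K A (ℓ j) * D.Y j ∈ _
  rw [← sub_mul, sq]
  exact Ideal.mul_mem_mul (hℓ j) (D.Y_mem j)

theorem apply_max_pow {T : Type u} [CommRing T] [Algebra K T] (φ : A →ₐ[K] T) (N : Ideal T)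
    (h : ∀ j, φ (D.Y j) ∈ N) {x : A} {k : ℕ} (hx : x ∈ maximalIdeal A ^ k) : φ x ∈ N ^ k := by
  have hle : (maximalIdeal A).map φ ≤ N := by
    rw [D.span_eq, Ideal.map_span, Ideal.span_le]
    rintro _ ⟨_, ⟨j, rfl⟩, rfl⟩
    exact h j
  have := Ideal.mem_map_of_mem φ hx
  rw [Ideal.map_pow] at this
  exact Ideal.pow_right_mono hle k this

include D in
/-- The dimension of the tangent space. -/
theorem finrank_ker_le (x y : A) (h : maximalIdeal A = Ideal.span {x, y}) :
    Module.finrank K (LinearMap.ker (Matrix.toLin' (jacAt f a))) ≤ 2 := by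
  obtain ⟨ℓ, hℓ⟩ := D.exists_linPart (x := x) (h ▸ Ideal.subset_span (by simp))
  obtain ⟨ℓ', hℓ'⟩ := D.exists_linPart (x := y) (h ▸ Ideal.subset_span (by simp))
  let L : LinearMap.ker (Matrix.toLin' (jacAt f a)) →ₗ[K] (Fin 2 → K) :=
    (Matrix.toLin' (Matrix.of ![ℓ, ℓ'])) ∘ₗ (LinearMap.ker _).subtype
  have hL : Function.Injective L := (injective_iff_map_eq_zero L).2 fun v hv => by
    obtain ⟨φ, hφ⟩ := D.exists_tangent (LinearMap.mem_ker.1 v.2)
    have hmem : ∀ j, φ (D.Y j) ∈ Ideal.span {jt K 2} := fun j => by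
      rw [hφ]; exact Ideal.mul_mem_left _ _ (Ideal.mem_span_singleton_self _)
    have hz : ∀ (e : Fin n → K) (z : A), z - ∑ j, algebraMap K A (e j) * D.Y j ∈ maximalIdeal A ^ 2 →
        ∑ j, e j * v.1 j = 0 → φ z = 0 := fun e z hz he => by
      have := D.apply_max_pow φ _ hmem hz
      rw [span_jt_pow, Ideal.mem_bot, map_sub, sub_eq_zero, map_sum] at this
      rw [this]
      simp only [map_mul, AlgHom.commutes, hφ, ← mul_assoc, ← Finset.sum_mul]
      simp only [← map_mul, ← map_sum, he, map_zero, zero_mul]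
    have hxy : ∀ z ∈ maximalIdeal A, φ z = 0 := by
      rw [h]
      intro z hzm
      obtain ⟨p, q, rfl⟩ := Ideal.mem_span_pair.1 hzm
      rw [map_add, map_mul, map_mul, hz ℓ x hℓ (congrFun hv 0), hz ℓ' y hℓ' (congrFun hv 1),
        mul_zero, mul_zero, add_zero]
    refine Subtype.ext (funext fun j => eq_zero_of_jt_pow (k := 2) (j := 1) one_lt_two ?_)
    rw [pow_one, ← hφ]
    exact hxy _ (D.Y_mem j)
  simpa using LinearMap.finrank_le_finrank_of_injective hL

include D in
theorem spanFinrank_le [IsNoetherianRing A] :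
    (maximalIdeal A).spanFinrank ≤ Module.finrank K (LinearMap.ker (Matrix.toLin' (jacAt f a))) := by
  classical
  let L := Matrix.toLin' (jacAt f a)
  let b := Module.finBasis K (LinearMap.ker L)
  obtain ⟨π, hπ⟩ := (LinearMap.ker L).subtype.exists_leftInverse_of_injective (Submodule.ker_subtype _)
  let Wl : (Fin _ → K) →ₗ[K] (Fin n → K) := (LinearMap.ker L).subtype ∘ₗ b.equivFun.symm.toLinearMap
  let Pl : (Fin n → K) →ₗ[K] (Fin _ → K) := b.equivFun.toLinearMap ∘ₗ π
  let g := LinearMap.id - (LinearMap.ker L).subtype ∘ₗ π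
  have hg : LinearMap.ker L ≤ LinearMap.ker g := fun v hv => by
    have := LinearMap.congr_fun hπ (⟨v, hv⟩ : LinearMap.ker L)
    simp only [LinearMap.mem_ker, g, LinearMap.sub_apply, LinearMap.id_coe, id_eq, LinearMap.comp_apply,
      Submodule.subtype_apply, sub_eq_zero]
    exact (congrArg Subtype.val this).symm
  obtain ⟨G, hG⟩ := (((LinearMap.ker L).liftQ g hg).comp L.quotKerEquivRange.symm.toLinearMap).exists_extend
  have hid : LinearMap.toMatrix' Wl * LinearMap.toMatrix' Pl +
      LinearMap.toMatrix' G * (jacAt f a).submatrix id id = 1 := by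
    apply Matrix.toLin'.injective
    rw [Matrix.submatrix_id_id, map_add, Matrix.toLin'_mul, Matrix.toLin'_mul, Matrix.toLin'_toMatrix',
      Matrix.toLin'_toMatrix', Matrix.toLin'_toMatrix', Matrix.toLin'_one]
    refine LinearMap.ext fun v => ?_
    show ((b.equivFun.symm (b.equivFun (π v)) : LinearMap.ker L) : Fin n → K) + G (L v) = v
    rw [LinearEquiv.symm_apply_apply]
    have h2 := LinearMap.congr_fun hG ⟨L v, LinearMap.mem_range_self L v⟩
    simp only [LinearMap.comp_apply, LinearEquiv.coe_coe, Submodule.subtype_apply] at h2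
    rw [h2, show L.quotKerEquivRange.symm ⟨L v, LinearMap.mem_range_self L v⟩ = Submodule.Quotient.mk v from
      LinearMap.quotKerEquivRange_symm_apply_image L v _]
    show _ + (v - ((π v : LinearMap.ker L) : Fin n → K)) = v
    exact add_sub_cancel _ _
  rw [D.span_eq_of_split id _ _ _ hid]
  refine (Submodule.spanFinrank_span_le_ncard_of_finite (Set.finite_range _)).trans ?_
  rw [← Set.image_univ]
  exact (Set.ncard_image_le Set.finite_univ).trans (by simp [Set.ncard_univ, L])

end PtRing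

end Groth.Agent.CStk17.NodeOpen
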