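import Groth.Agent.CStk17.NodeOpen.Local

/-!
# Quadratic nodes and the critical invariant
-/

set_option autoImplicit false
set_option backward.isDefEq.respectTransparency.types false
set_option linter.style.haveILetI false

universe u

open MvPolynomial Matrix IsLocalRing

namespace Groth.Agent.CStk17.NodeOpen

open NodeAlg15 (quad IsQuadNode)

variable {K : Type u} [Field K]

theorem qval_sub_mem {n : ℕ} {T : Type u} [CommRing T] [Algebra K T] (Q : Matrix (Fin n) (Fin n) K) (N : Ideal T)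
    (y y' : Fin n → T) (hy : ∀ i, y i ∈ N) (hy' : ∀ i, y' i ∈ N) (hd : ∀ i, y i - y' i ∈ N ^ 2) :
    qval Q y - qval Q y' ∈ N ^ 3 := by
  show ∑ i, y i * (∑ j, (Q.map (algebraMap K T)) i j * y j) -
    ∑ i, y' i * (∑ j, (Q.map (algebraMap K T)) i j * y' j) ∈ N ^ 3
  simp only [Finset.mul_sum, ← Finset.sum_sub_distrib]
  refine Ideal.sum_mem _ fun i _ => Ideal.sum_mem _ fun j _ => ?_
  generalize (Q.map (algebraMap K T)) i j = q
  rw [show y i * (q * y j) - y' i * (q * y' j) = q * ((y i - y' i) * y j + (y j - y' j) * y' i) by ring,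
    pow_succ N 2]
  exact Ideal.mul_mem_left _ _ (add_mem (Ideal.mul_mem_mul (hd i) (hy j)) (Ideal.mul_mem_mul (hd j) (hy' i)))

theorem qval_mulVec {n d : ℕ} {T : Type u} [CommRing T] [Algebra K T] (Q : Matrix (Fin n) (Fin n) K)
    (W : Matrix (Fin n) (Fin d) K) (s : Fin d → T) :
    qval Q (W.map (algebraMap K T) *ᵥ s) = qval (Wᵀ * Q * W) s := by
  simp only [qval, Matrix.map_mul, ← Matrix.mulVec_mulVec, Matrix.dotProduct_mulVec s, Matrix.transpose_map,
    Matrix.vecMul_transpose]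

theorem qval_fin_two {T : Type u} [CommRing T] [Algebra K T] (M : Matrix (Fin 2) (Fin 2) K) (s : Fin 2 → T) :
    qval M s = quad (algebraMap K T (M 0 0)) (algebraMap K T (M 0 1 + M 1 0)) (algebraMap K T (M 1 1)) (s 0) (s 1) := by
  simp only [qval, quad, dotProduct, Matrix.mulVec, Fin.sum_univ_two, Matrix.map_apply, map_add]
  ring

theorem qval_map_mul {n : ℕ} {T : Type u} [CommRing T] [Algebra K T] (Q : Matrix (Fin n) (Fin n) K)
    (v : Fin n → K) (t : T) :
    qval Q (fun j => algebraMap K T (v j) * t) = algebraMap K T (qval Q v) * t ^ 2 := by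
  simp only [qval, dotProduct, Matrix.mulVec, Matrix.map_apply, map_sum, map_mul, Finset.mul_sum, Finset.sum_mul,
    Algebra.algebraMap_self, RingHom.id_apply]
  exact Finset.sum_congr rfl fun i _ => Finset.sum_congr rfl fun j _ => by ring

theorem qval_sum {n : ℕ} {ι : Type*} (s : Finset ι) {T : Type u} [CommRing T] [Algebra K T] (l : ι → K)
    (Q : ι → Matrix (Fin n) (Fin n) K) (y : Fin n → T) :
    qval (∑ i ∈ s, l i • Q i) y = ∑ i ∈ s, algebraMap K T (l i) * qval (Q i) y := by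
  classical
  induction s using Finset.induction with
  | empty => simp [qval]
  | insert i s hi ih => rw [Finset.sum_insert hi, Finset.sum_insert hi, qval_add, qval_smul, ih]

theorem det_add_transpose (M : Matrix (Fin 2) (Fin 2) K) :
    (M + Mᵀ).det = 4 * M 0 0 * M 1 1 - (M 0 1 + M 1 0) ^ 2 := by
  simp only [Matrix.det_fin_two, Matrix.add_apply, Matrix.transpose_apply]
  ring

namespace PtRing

variable {m c : ℕ} {f : Fin c → MvPolynomial (Fin (m + 2)) K} {a : Fin (m + 2) → K}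
variable {A : Type u} [CommRing A] [IsLocalRing A] [Algebra K A] (D : PtRing f a A) (σ : Sel m c)
variable {W : Matrix (Fin (m + 2)) (Fin 2) K} {P : Matrix (Fin 2) (Fin (m + 2)) K}
  {Rm : Matrix (Fin (m + 2)) (Fin m) K}

/-- Curves of first order in the two coordinates. -/
theorem exists_tangent_uv (hδ : σ.dlt (jacAt f a) ≠ 0) (hl : σ.lam (jacAt f a) ᵥ* jacAt f a = 0)
    (hW : σ.rowsMat (jacAt f a) * W = 0) (hP : P * W = 1) (s : Fin 2 → K) :
    ∃ φ : A →ₐ[K] Jet K 2, ∀ k, φ ((P.map (algebraMap K A) *ᵥ D.Y) k) = algebraMap K (Jet K 2) (s k) * jt K 2 := by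
  obtain ⟨φ, hφ⟩ := D.exists_tangent (y := W *ᵥ s)
    (by rw [Matrix.mulVec_mulVec, σ.mul_W_eq_zero hδ hl hW, Matrix.zero_mulVec])
  refine ⟨φ, fun k => ?_⟩
  have h : s k = ∑ j, P k j * (W *ᵥ s) j := by
    show _ = (P *ᵥ (W *ᵥ s)) k
    rw [Matrix.mulVec_mulVec, hP, Matrix.one_mulVec]
  show φ (∑ j, (P.map (algebraMap K A)) k j * D.Y j) = _
  rw [map_sum, h, map_sum, Finset.sum_mul]
  exact Finset.sum_congr rfl fun j _ => by rw [map_mul, Matrix.map_apply, AlgHom.commutes, hφ, map_mul, mul_assoc]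

/-- The quadratic relation and the curves of second order. -/
theorem exists_relation (hδ : σ.dlt (jacAt f a) ≠ 0) (hl : σ.lam (jacAt f a) ᵥ* jacAt f a = 0)
    (hR : σ.rowsMat (jacAt f a) * Rm = 1) (hW : σ.rowsMat (jacAt f a) * W = 0)
    (hid : W * P + Rm * σ.rowsMat (jacAt f a) = 1) (hP : P * W = 1) :
    ∃ M : Matrix (Fin 2) (Fin 2) K,
      M + Mᵀ = Wᵀ * (∑ i, σ.lam (jacAt f a) i • hessAt f a i) * W ∧
      qval M (P.map (algebraMap K A) *ᵥ D.Y) ∈ maximalIdeal A ^ 3 ∧
      ∀ s : Fin 2 → K, qval M s = 0 → ∃ φ : A →ₐ[K] Jet K 3, (∀ j, φ (D.Y j) ∈ Ideal.span {jt K 3}) ∧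
        ∀ k, φ ((P.map (algebraMap K A) *ᵥ D.Y) k) - algebraMap K (Jet K 3) (s k) * jt K 3 ∈
          Ideal.span {jt K 3} ^ 2 := by
  classical
  choose Q hQ hexp using fun i => D.exists_expand i
  set J := jacAt f a with hJ
  set l := σ.lam J with hldef
  let QG := ∑ i, l i • Q i
  have hQG : QG + QGᵀ = ∑ i, l i • hessAt f a i := by
    simp only [QG, Matrix.transpose_sum, Matrix.transpose_smul, ← Finset.sum_add_distrib, ← smul_add, hQ]
  refine ⟨Wᵀ * QG * W, ?_, ?_, fun s hs => ?_⟩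
  · rw [Matrix.transpose_mul, Matrix.transpose_mul, Matrix.transpose_transpose, ← hQG]
    simp only [Matrix.mul_add, Matrix.add_mul, Matrix.mul_assoc]
  · let φ := algebraMap K A
    have h0 : qval QG D.Y ∈ maximalIdeal A ^ 3 := by
      have hsum : ∀ i, ((J.map φ) *ᵥ D.Y) i + qval (Q i) D.Y ∈ maximalIdeal A ^ 3 := fun i => by
        have h := hexp i A (maximalIdeal A) D.Y D.Y_mem
        rwa [D.aeval_Y, D.rel, zero_sub, neg_mem_iff] at h
      have h2 := Ideal.sum_mem (maximalIdeal A ^ 3) fun i (_ : i ∈ Finset.univ) =>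
        Ideal.mul_mem_left _ (φ (l i)) (hsum i)
      simp only [mul_add, Finset.sum_add_distrib] at h2
      have h3 : ∑ i, φ (l i) * ((J.map φ) *ᵥ D.Y) i = 0 := by
        show (φ ∘ l) ⬝ᵥ ((J.map φ) *ᵥ D.Y) = 0
        have h4 : (φ ∘ l) ᵥ* (J.map φ) = 0 := funext fun j => by
          have := (RingHom.map_vecMul φ J l j).symm
          rw [hl] at this
          simpa using this
        rw [Matrix.dotProduct_mulVec, h4, zero_dotProduct]
      rw [h3, zero_add] at h2
      rwa [qval_sum]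
    rw [← qval_mulVec]
    have hmem : ∀ i, ((W.map φ) *ᵥ (P.map φ *ᵥ D.Y)) i ∈ maximalIdeal A := fun i =>
      show ∑ k, (W.map φ) i k * ∑ j, (P.map φ) k j * D.Y j ∈ _ from
      Ideal.sum_mem _ fun k _ => Ideal.mul_mem_left _ _ (Ideal.sum_mem _ fun j _ => Ideal.mul_mem_left _ _ (D.Y_mem j))
    have hsub := qval_sub_mem QG (maximalIdeal A) D.Y _ D.Y_mem hmem (D.sub_mem_sq σ.r W P Rm hid)
    have := sub_mem h0 hsub
    rwa [sub_sub_cancel] at this
  · let T := Jet K 3
    let φ := algebraMap K T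
    let t := jt K 3
    let v := W *ᵥ s
    let z := - (Rm *ᵥ fun r => qval (Q (σ.r r)) v)
    let y : Fin (m + 2) → T := fun j => φ (v j) * t + φ (z j) * t ^ 2
    let N : Ideal T := Ideal.span {t}
    have ht : t ∈ N := Ideal.mem_span_singleton_self t
    have ht2 : t ^ 2 ∈ N ^ 2 := Ideal.pow_mem_pow ht 2
    have hy : ∀ j, y j ∈ N := fun j => add_mem (Ideal.mul_mem_left _ _ ht)
      (Ideal.mul_mem_left _ _ (Ideal.pow_le_self two_ne_zero ht2))
    have hN3 : N ^ 3 = ⊥ := span_jt_pow 3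
    have hsecond : ∀ i, aeval (fun j => φ (a j) + y j) (f i) = φ ((J *ᵥ z) i + qval (Q i) v) * t ^ 2 := fun i => by
      have h := hexp i T N y hy
      rw [hN3, Ideal.mem_bot, sub_eq_zero] at h
      have hq := qval_sub_mem (Q i) N y (fun j => φ (v j) * t) hy (fun j => Ideal.mul_mem_left _ _ ht)
        (fun j => by rw [add_sub_cancel_left]; exact Ideal.mul_mem_left _ _ ht2)
      rw [hN3, Ideal.mem_bot, sub_eq_zero, qval_map_mul] at hq
      have hv : ∑ j, φ (J i j) * φ (v j) = 0 := by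
        rw [← Finset.sum_congr rfl fun j _ => map_mul φ (J i j) (v j), ← map_sum]
        show φ ((J *ᵥ v) i) = 0
        rw [Matrix.mulVec_mulVec, σ.mul_W_eq_zero hδ hl hW, Matrix.zero_mulVec, Pi.zero_apply, map_zero]
      rw [h, hq, map_add, add_mul]
      congr 1
      show ∑ j, φ (J i j) * (φ (v j) * t + φ (z j) * t ^ 2) = φ (∑ j, J i j * z j) * t ^ 2
      simp only [mul_add, Finset.sum_add_distrib, ← mul_assoc, ← Finset.sum_mul, hv, zero_mul, zero_add,
        map_sum, map_mul]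
    have he : ∀ i, (J *ᵥ z) i + qval (Q i) v = 0 := by
      have hr : ∀ r, (J *ᵥ z) (σ.r r) + qval (Q (σ.r r)) v = 0 := fun r => by
        have : (J *ᵥ z) (σ.r r) = (σ.rowsMat J *ᵥ z) r := rfl
        rw [this, Matrix.mulVec_neg, Matrix.mulVec_mulVec, hR, Matrix.one_mulVec, Pi.neg_apply, neg_add_cancel]
      intro i
      obtain ⟨o, rfl⟩ := σ.e.symm.surjective i
      rcases o with _ | r
      · have h1 : ∑ i, l i * ((J *ᵥ z) i + qval (Q i) v) = 0 := by
          simp only [mul_add, Finset.sum_add_distrib]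
          rw [show ∑ i, l i * (J *ᵥ z) i = l ⬝ᵥ (J *ᵥ z) from rfl, Matrix.dotProduct_mulVec, hl, zero_dotProduct,
            zero_add]
          have h2 := qval_sum Finset.univ l Q v
          simp only [Algebra.algebraMap_self, RingHom.id_apply] at h2
          rw [← h2]
          have h3 := qval_mulVec (T := K) QG W s
          simp only [Algebra.algebraMap_self, RingHom.coe_id, Matrix.map_id] at h3
          exact h3.trans hs
        rw [σ.sum_rows] at h1
        simp only [hr, mul_zero, Finset.sum_const_zero, add_zero, hldef, Sel.lam_i₀] at h1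
        exact (mul_eq_zero.1 h1).resolve_left hδ
      · exact hr r
    obtain ⟨Φ, hΦ⟩ := D.lift T y (fun j => ⟨3, by
      have := Ideal.pow_mem_pow (hy j) 3
      rwa [hN3, Ideal.mem_bot] at this⟩) fun i => by rw [hsecond, he, map_zero, zero_mul]
    have hΦY : ∀ j, Φ (D.Y j) = y j := fun j => by
      rw [Y, map_sub, hΦ, AlgHom.commutes, add_sub_cancel_left]
    refine ⟨Φ, fun j => by rw [hΦY]; exact hy j, fun k => ?_⟩
    have hs' : s k = ∑ j, P k j * v j := by
      show _ = (P *ᵥ (W *ᵥ s)) k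
      rw [Matrix.mulVec_mulVec, hP, Matrix.one_mulVec]
    show Φ (∑ j, (P.map (algebraMap K A)) k j * D.Y j) - _ ∈ _
    rw [map_sum, hs', map_sum, Finset.sum_mul, ← Finset.sum_sub_distrib]
    refine Ideal.sum_mem _ fun j _ => ?_
    rw [map_mul, Matrix.map_apply, AlgHom.commutes, hΦY, map_mul,
      show φ (P k j) * y j - φ (P k j) * φ (v j) * t = φ (P k j) * φ (z j) * t ^ 2 by simp only [y]; ring]
    exact Ideal.mul_mem_left _ _ ht2

include D in
/-- The critical invariant forces a quadratic node. -/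
theorem isQuadNode (hd : σ.crit (jacAt f a) (hessAt f a) ≠ 0) (hl : σ.lam (jacAt f a) ᵥ* jacAt f a = 0)
    [IsNoetherianRing A] (hr : ∃ r ∈ maximalIdeal A, r ∈ nonZeroDivisors A) :
    IsQuadNode A := by
  obtain ⟨hδ, hbord⟩ := mul_ne_zero_iff.1 hd
  obtain ⟨W, P, Rm, hR, hW, hid, hP⟩ := σ.exists_split (jacAt f a) hδ
  obtain ⟨M, hM, hrel, -⟩ := D.exists_relation σ hδ hl hR hW hid hP
  set w := P.map (algebraMap K A) *ᵥ D.Y with hw
  have hspan : maximalIdeal A = Ideal.span {w 0, w 1} := by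
    rw [D.span_eq_of_split σ.r W P Rm hid, ← hw]
    congr 1
    ext x
    simp [Fin.exists_fin_two, eq_comm]
  have hnot : ∀ i j : Fin 2, i ≠ j → w i ∉ Ideal.span {w j} := fun i j hij hmem => by
    obtain ⟨φ, hφ⟩ := D.exists_tangent_uv σ hδ hl hW hP (Pi.single i 1)
    obtain ⟨d, hd⟩ := Ideal.mem_span_singleton'.1 hmem
    have h := congrArg φ hd
    rw [map_mul, hφ, hφ, Pi.single_eq_same, Pi.single_eq_of_ne hij.symm, map_zero, zero_mul, mul_zero] at h
    exact one_ne_zero (eq_zero_of_jt_pow (K := K) (k := 2) (j := 1) one_lt_two (by rw [pow_one]; exact h.symm))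
  have h2 : (maximalIdeal A).spanFinrank = 2 :=
    (NodeAlg15.spanFinrank_eq_two_iff hspan).2 ⟨hnot 0 1 (by decide), hnot 1 0 (by decide)⟩
  refine ⟨h2, hr, w 0, w 1, algebraMap K A (M 0 0), algebraMap K A (M 0 1 + M 1 0), algebraMap K A (M 1 1),
    hspan, ?_, ?_⟩
  · have hdet : (M + Mᵀ).det ≠ 0 := hM ▸ (σ.det_restrict_ne_zero_iff _ hR hW hid hP).2 hbord
    rw [det_add_transpose] at hdet
    simpa only [map_sub, map_mul, map_pow, map_ofNat] using (isUnit_iff_ne_zero.2 hdet).map (algebraMap K A)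
  · rwa [qval_fin_two] at hrel

include D in
/-- The bordered Hessian is invertible at a quadratic node. -/
theorem bord_det_ne_zero (hδ : σ.dlt (jacAt f a) ≠ 0) (hl : σ.lam (jacAt f a) ᵥ* jacAt f a = 0)
    [IsNoetherianRing A] (hN : IsQuadNode A) : (σ.bord (jacAt f a) (hessAt f a)).det ≠ 0 := by
  obtain ⟨W, P, Rm, hR, hW, hid, hP⟩ := σ.exists_split (jacAt f a) hδ
  obtain ⟨M, hM, hrel, hcurve⟩ := D.exists_relation σ hδ hl hR hW hid hP
  rw [← σ.det_restrict_ne_zero_iff _ hR hW hid hP, ← hM, det_add_transpose]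
  set w := P.map (algebraMap K A) *ᵥ D.Y with hw
  have hspan : maximalIdeal A = Ideal.span {w 0, w 1} := by
    rw [D.span_eq_of_split σ.r W P Rm hid, ← hw]
    congr 1
    ext x
    simp [Fin.exists_fin_two, eq_comm]
  obtain ⟨h2, ⟨r, hr, hr0⟩, x, y, α, β, γ, hxy, hu, hq⟩ := hN
  obtain ⟨p, q, hx⟩ := Ideal.mem_span_pair.1 (hspan ▸ (hxy ▸ Ideal.subset_span (by simp) : x ∈ maximalIdeal A))
  obtain ⟨p', q', hy⟩ := Ideal.mem_span_pair.1 (hspan ▸ (hxy ▸ Ideal.subset_span (by simp) : y ∈ maximalIdeal A))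
  have hdetu := NodeAlg15.isUnit_det hxy hspan h2 hx.symm hy.symm
  rw [← hx, ← hy, NodeAlg15.quad_transform] at hq
  have hu' := (hdetu.pow 2).mul hu
  rw [← NodeAlg15.disc_transform] at hu'
  set α' := quad α β γ p p'
  set β' := 2 * α * p * q + β * (p * q' + q * p') + 2 * γ * p' * q'
  set γ' := quad α β γ q q'
  rw [qval_fin_two] at hrel
  by_cases hz : M 0 0 = 0 ∧ M 0 1 + M 1 0 = 0 ∧ M 1 1 = 0
  · exfalso
    have hform : ∀ s : Fin 2 → K, qval M s = 0 := fun s => by
      rw [qval_fin_two, hz.1, hz.2.1, hz.2.2]; simp [quad]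
    obtain ⟨ka, hka⟩ := D.res α'
    obtain ⟨kb, hkb⟩ := D.res β'
    obtain ⟨kc, hkc⟩ := D.res γ'
    have key : ∀ s : Fin 2 → K, quad ka kb kc (s 0) (s 1) = 0 := fun s => by
      obtain ⟨φ, hφY, hφ⟩ := hcurve s (hform s)
      let φK := algebraMap K (Jet K 3)
      let t := jt K 3
      let N : Ideal (Jet K 3) := Ideal.span {t}
      have hw' : ∀ k, φ (w k) ∈ N := fun k => by
        have := add_mem (Ideal.pow_le_self two_ne_zero (hφ k))
          (Ideal.mul_mem_left N (φK (s k)) (Ideal.mem_span_singleton_self t))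
        rwa [sub_add_cancel] at this
      have hprod : ∀ k k', φ (w k) * φ (w k') - φK (s k) * φK (s k') * t ^ 2 ∈ N ^ 3 := fun k k' => by
        rw [show φ (w k) * φ (w k') - φK (s k) * φK (s k') * t ^ 2 =
          (φ (w k) - φK (s k) * t) * φ (w k') + (φ (w k') - φK (s k') * t) * (φK (s k) * t) by ring, pow_succ N 2]
        exact add_mem (Ideal.mul_mem_mul (hφ k) (hw' k'))
          (Ideal.mul_mem_mul (hφ k') (Ideal.mul_mem_left _ _ (Ideal.mem_span_singleton_self t)))
      have hterm : ∀ {z : A} {k₀ : K}, z - algebraMap K A k₀ ∈ maximalIdeal A → ∀ k k',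
          φ z * (φ (w k) * φ (w k')) - φK (k₀ * (s k * s k')) * t ^ 2 ∈ N ^ 3 := fun {z k₀} hz₀ k k' => by
        have h1 : φ z - φK k₀ ∈ N := by
          have h := D.apply_max_pow φ N hφY (k := 1) (by rwa [pow_one])
          rwa [pow_one, map_sub, AlgHom.commutes] at h
        rw [show φ z * (φ (w k) * φ (w k')) - φK (k₀ * (s k * s k')) * t ^ 2 =
          (φ z - φK k₀) * φ (w k) * φ (w k') + φK k₀ * (φ (w k) * φ (w k') - φK (s k) * φK (s k') * t ^ 2) by
            rw [map_mul, map_mul]; ring]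
        refine add_mem ?_ (Ideal.mul_mem_left _ _ (hprod k k'))
        rw [pow_succ N 2, sq N]
        exact Ideal.mul_mem_mul (Ideal.mul_mem_mul h1 (hw' k)) (hw' k')
      have hsum := add_mem (add_mem (hterm hka 0 0) (hterm hkb 0 1)) (hterm hkc 1 1)
      have h0 := D.apply_max_pow φ N hφY hq
      have hN3 : N ^ 3 = ⊥ := span_jt_pow 3
      rw [hN3, Ideal.mem_bot] at h0 hsum
      refine eq_zero_of_jt_pow (k := 3) (j := 2) (by norm_num) ?_
      simp only [quad, map_add, map_mul, map_pow] at h0 hsum ⊢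
      linear_combination h0 - hsum
    have e0 := key ![1, 0]
    have e1 := key ![0, 1]
    have e2 := key ![1, 1]
    simp [quad] at e0 e1 e2
    rw [e0, e1, zero_add, add_zero] at e2
    refine (mem_maximalIdeal _).1 ?_ hu'
    rw [e0, map_zero, sub_zero] at hka
    rw [e2, map_zero, sub_zero] at hkb
    rw [e1, map_zero, sub_zero] at hkc
    exact sub_mem (Ideal.mul_mem_left _ _ hkc) (Ideal.pow_mem_of_mem _ hkb 2 two_pos)
  · have hsome : IsUnit (algebraMap K A (M 0 0)) ∨ IsUnit (algebraMap K A (M 0 1 + M 1 0)) ∨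
        IsUnit (algebraMap K A (M 1 1)) := by
      by_contra hall
      simp only [not_or] at hall
      exact hz ⟨by_contra fun h => hall.1 ((isUnit_iff_ne_zero.2 h).map _),
        by_contra fun h => hall.2.1 ((isUnit_iff_ne_zero.2 h).map _),
        by_contra fun h => hall.2.2 ((isUnit_iff_ne_zero.2 h).map _)⟩
    have h := NodeAlg15.isUnit_disc_of_relations hspan h2 hr hr0 hq hu' hrel hsome
    intro h0
    have h00 := congrArg (algebraMap K A) h0
    simp only [map_sub, map_mul, map_pow, map_ofNat, map_zero] at h00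
    exact not_isUnit_zero (h00 ▸ h)

end PtRing

end Groth.Agent.CStk17.NodeOpen
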