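import Groth.Agent.CStk17.NodeOpen.Chart
import Groth.Agent.CStk17.CICond
import Groth.Agent.CILib.Basic
import Groth.Agent.PSLib.Regular
import Groth.Agent.FibDim.LocDim

/-!
# The smooth-or-node locus is open
-/

set_option autoImplicit false
set_option backward.isDefEq.respectTransparency false
set_option backward.isDefEq.respectTransparency.types false
set_option linter.style.haveILetI false

universe u

open CategoryTheory CategoryTheory.Limits AlgebraicGeometry IsLocalRing MvPolynomial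

namespace Groth.Agent.CStk17.NodeOpen

open NodeAlg15 (IsQuadNode)
open PtConds (SmoothAt)

/-- Complete intersections: absolute and over the field. -/
theorem isCI_iff_isCIOver (k A : Type u) [Field k] [CommRing A] [IsLocalRing A] [Algebra k A]
    [Algebra.EssFiniteType k A] : Pi1.IsCompleteIntersection A ↔ Synt.IsCIOver k A := by
  obtain ⟨R, _, _, _, _, π, hπ⟩ := Synt29.exists_regular_presentation (k := k) A
  rw [Synt29.isCIOver_iff_ciKer π hπ]
  exact CILib.isCI_iff_ciKer π.toRingHom hπ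

theorem essFiniteType_stalk (k : Type u) [Field k] {Z : Scheme.{u}} (p : Z ⟶ Spec (CommRingCat.of k))
    [LocallyOfFiniteType p] (z : Z) :
    letI := (Synt29.stalkHom k p z).toAlgebra
    Algebra.EssFiniteType k (Z.presheaf.stalk z) := by
  obtain ⟨U, hU, hz, -⟩ := exists_isAffineOpen_mem_and_subset (U := ⊤) (x := z) trivial
  letI : Algebra Γ(Z, U) (Z.presheaf.stalk z) := TopCat.Presheaf.algebra_section_stalk Z.presheaf ⟨z, hz⟩
  letI : Algebra k Γ(Z, U) := (Synt29.secHom k p U).toAlgebra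
  letI := (Synt29.stalkHom k p z).toAlgebra
  haveI : IsScalarTower k Γ(Z, U) (Z.presheaf.stalk z) :=
    IsScalarTower.of_algebraMap_eq' (Synt29.stalkHom_eq k p U z hz)
  haveI : IsLocalization.AtPrime (Z.presheaf.stalk z) (hU.primeIdealOf ⟨z, hz⟩).asIdeal :=
    hU.isLocalization_stalk ⟨z, hz⟩
  haveI : Algebra.EssFiniteType Γ(Z, U) (Z.presheaf.stalk z) :=
    Algebra.EssFiniteType.of_isLocalization _ (hU.primeIdealOf ⟨z, hz⟩).asIdeal.primeCompl
  haveI : Algebra.FiniteType k Γ(Z, U) := Synt29.finiteType_secHom k p ⟨U, hU⟩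
  exact Algebra.EssFiniteType.comp k Γ(Z, U) _

/-- Quadratic nodes are complete intersections. -/
theorem isCI_of_isQuadNode {k A : Type u} [Field k] [CommRing A] [IsLocalRing A] [IsNoetherianRing A] [Algebra k A]
    [Algebra.IsSeparable k (ResidueField A)] (h : IsQuadNode A) : Pi1.IsCompleteIntersection A := by
  obtain ⟨a, b, c, hd, e, -⟩ := NodeAlg15.Geom.exists_completion_equiv_of_isQuadNode (k := k) h
  let K := ResidueField A
  haveI := PSLib.isRegularLocalRing (K := K) (n := 2)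
  haveI := RegLoc6.isDomain_of_isRegularLocalRing (MvPowerSeries (Fin 2) K)
  let q : MvPowerSeries (Fin 2) K := NodeAlg15.quadPS a b c
  haveI hnt : Nontrivial (MvPowerSeries (Fin 2) K ⧸ Ideal.span {q}) := e.symm.toEquiv.nontrivial
  have hqm : q ∈ maximalIdeal (MvPowerSeries (Fin 2) K) := by
    refine le_maximalIdeal (Ideal.Quotient.nontrivial_iff.1 hnt) (Ideal.mem_span_singleton_self _)
  have hq0 : q ≠ 0 := NodeAlg15.quadPS_ne_zero hd
  refine ⟨MvPowerSeries (Fin 2) K, inferInstance, inferInstance, [q], by simpa using hqm, ?_,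
    ⟨e.trans (Ideal.quotEquivOfEq (by simp only [q]; congr 1; ext; simp))⟩⟩
  refine RingTheory.Sequence.IsRegular.of_isWeaklyRegular_of_mem_maximalIdeal _ (by simpa using hqm) ?_
  exact (RingTheory.Sequence.isWeaklyRegular_cons_iff _ _ _).2
    ⟨fun x y h => mul_left_cancel₀ hq0 h, RingTheory.Sequence.IsWeaklyRegular.nil _ _⟩

theorem nodeAt_ciAt {X S : Scheme.{u}} (g : X ⟶ S) [LocallyOfFiniteType g] {x : X} (h : NodeAt g x) :
    CICond.CIAt g x := by
  let k := S.residueField (g x)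
  let p := g.fiberToSpecResidueField (g x)
  let z := g.asFiber x
  haveI : LocallyOfFiniteType p := MorphismProperty.pullback_snd _ _ ‹LocallyOfFiniteType g›
  haveI : IsLocallyNoetherian (g.fiber (g x)) := LocallyOfFiniteType.isLocallyNoetherian p
  have hA : Pi1.IsCompleteIntersection ((g.fiber (g x)).presheaf.stalk z) := by
    letI : (g.fiber (g x)).Over (Spec (CommRingCat.of k)) := ⟨p⟩
    haveI : LocallyOfFiniteType ((g.fiber (g x)) ↘ Spec (CommRingCat.of k)) := ‹LocallyOfFiniteType p›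
    letI := Curv2.stalkAlgebra k (g.fiber (g x)) z
    obtain ⟨-, hsep, hq⟩ := (NodeAlg15.Geom.isNode_iff (k := k) z).1 h
    exact isCI_of_isQuadNode (k := k) hq
  letI := (Synt29.stalkHom k p z).toAlgebra
  haveI := essFiniteType_stalk k p z
  exact (isCI_iff_isCIOver k _).1 hA

/-- A chart by a relative global complete intersection around a point with complete intersection fibre. -/
theorem exists_std_chart {X S : Scheme.{u}} (f : X ⟶ S) [Flat f] [LocallyOfFinitePresentation f] {x : X}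
    (h : CICond.CIAt f x) :
    ∃ (R : Type u) (_ : CommRing R) (N M : ℕ) (F : Fin M → MvPolynomial (Fin N) R) (_ : Synt.IsRelGCI R N M F)
      (i : Spec (CommRingCat.of (Synt.RelGCIRing R N M F)) ⟶ X) (j : Spec (CommRingCat.of R) ⟶ S),
      IsOpenImmersion i ∧ IsOpenImmersion j ∧ x ∈ Set.range i ∧
        Spec.map (CommRingCat.ofHom (algebraMap R (Synt.RelGCIRing R N M F))) ≫ j = i ≫ f := by
  obtain ⟨_, ⟨V, hV, rfl⟩, hxV, -⟩ :=
    S.isBasis_affineOpens.exists_subset_of_mem_open (Set.mem_univ (f x)) isOpen_univ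
  obtain ⟨_, ⟨U, hU, rfl⟩, hxU, hUV⟩ := X.isBasis_affineOpens.exists_subset_of_mem_open
    (show x ∈ ((f ⁻¹ᵁ V : X.Opens) : Set X) from hxV) (f ⁻¹ᵁ V).isOpen
  let U' : X.Opens := U
  have hU' : IsAffineOpen U' := hU
  let V' : S.Opens := V
  have hV' : IsAffineOpen V' := hV
  have e : U' ≤ f ⁻¹ᵁ V' := hUV
  letI := (f.appLE V' U' e).hom.toAlgebra
  obtain ⟨Q, hQ, hiff⟩ := CICond.ciAt_chart f hU' hV' e x hxU
  let q := (hU'.primeIdealOf ⟨x, hxU⟩).asIdeal
  haveI : Algebra.FinitePresentation Γ(S, V') Γ(X, U') :=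
    RingHom.finitePresentation_algebraMap.1
      (HasRingHomProperty.appLE (P := @LocallyOfFinitePresentation) f inferInstance ⟨V', hV'⟩ ⟨U', hU'⟩ e)
  haveI : Module.Flat Γ(S, V') Γ(X, U') :=
    RingHom.flat_algebraMap_iff.1 (HasRingHomProperty.appLE (P := @Flat) f inferInstance ⟨V', hV'⟩ ⟨U', hU'⟩ e)
  haveI : Algebra.FinitePresentation Γ(X, U') (Localization.Away (1 : Γ(X, U'))) :=
    IsLocalization.Away.finitePresentation 1
  haveI : Algebra.FinitePresentation Γ(S, V') (Localization.Away (1 : Γ(X, U'))) :=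
    Algebra.FinitePresentation.trans Γ(S, V') Γ(X, U') _
  haveI : Module.Flat Γ(X, U') (Localization.AtPrime q) := IsLocalization.flat _ q.primeCompl
  obtain ⟨g, hg, N, M, F, hF, ⟨e'⟩⟩ := Synt29.exists_syntomic_away_iff (q.under Γ(S, V')) q Q.asIdeal hQ rfl 1
    (fun h1 => (hU'.primeIdealOf ⟨x, hxU⟩).2.ne_top ((Ideal.eq_top_iff_one _).2 h1))
    (Module.Flat.trans Γ(S, V') Γ(X, U') (Localization.AtPrime q)) (hiff.1 h)
  haveI : IsIso (Spec.map (CommRingCat.ofHom (e'.symm.toRingEquiv.toRingHom))) := by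
    haveI : IsIso (CommRingCat.ofHom (e'.symm.toRingEquiv.toRingHom)) :=
      (inferInstance : IsIso e'.symm.toRingEquiv.toCommRingCatIso.hom)
    infer_instance
  let a := Spec.map (CommRingCat.ofHom (algebraMap Γ(X, U') (Localization.Away g)))
  haveI : IsOpenImmersion a := IsOpenImmersion.of_isLocalization g
  let i := Spec.map (CommRingCat.ofHom (e'.symm.toRingEquiv.toRingHom)) ≫ a ≫ hU'.fromSpec
  refine ⟨Γ(S, V'), inferInstance, N, M, F, hF, i, hV'.fromSpec, inferInstance, inferInstance, ?_, ?_⟩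
  · obtain ⟨w, hw⟩ : hU'.primeIdealOf ⟨x, hxU⟩ ∈ Set.range a := by
      rw [show Set.range a = ((PrimeSpectrum.basicOpen g : TopologicalSpace.Opens _) : Set (PrimeSpectrum Γ(X, U'))) from PrimeSpectrum.localization_away_comap_range (Localization.Away g) g]
      exact hg
    obtain ⟨w', hw'⟩ := (Spec.map (CommRingCat.ofHom (e'.symm.toRingEquiv.toRingHom))).surjective w
    refine ⟨w', ?_⟩
    show hU'.fromSpec (a (Spec.map (CommRingCat.ofHom (e'.symm.toRingEquiv.toRingHom)) w')) = x
    rw [hw', hw]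
    exact hU'.fromSpec_primeIdealOf ⟨x, hxU⟩
  · have hsq := IsAffineOpen.SpecMap_appLE_fromSpec f hV' hU' e
    simp only [i, Category.assoc]
    rw [← hsq]
    simp only [← Category.assoc]
    congr 1
    simp only [a, ← Spec.map_comp]
    congr 1
    ext r
    exact (e'.symm.commutes r).symm

theorem nodeAt_openImm {X S U V : Scheme.{u}} (f : X ⟶ S) (g : U ⟶ V) (iU : U ⟶ X) (iV : V ⟶ S)
    [IsOpenImmersion iU] [IsOpenImmersion iV] [LocallyOfFiniteType f] (hsq : g ≫ iV = iU ≫ f) (w : U) :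
    NodeAt g w ↔ NodeAt f (iU w) := by
  let y : V := g w
  let r := Spec.map (iV.residueFieldMap y)
  haveI : IsIso (iV.residueFieldMap y) := inferInstance
  let m : g.fiber y ⟶ f.fiber (iV y) :=
    pullback.map g (V.fromSpecResidueField y) f (S.fromSpecResidueField (iV y))
      iU r iV hsq (Scheme.Hom.SpecMap_residueFieldMap_fromSpecResidueField iV y).symm
  haveI : IsOpenImmersion r := inferInstance
  haveI : IsOpenImmersion m := Scheme.pullback_map_isOpenImmersion _ _ _ _ _ _ _ _ _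
  have hm : m ≫ f.fiberToSpecResidueField (iV y) = g.fiberToSpecResidueField y ≫ r := pullback.lift_snd _ _ _
  haveI : LocallyOfFiniteType (f.fiberToSpecResidueField (iV y)) := MorphismProperty.pullback_snd _ _ ‹_›
  have sq : IsPullback (𝟙 (g.fiber y)) (g.fiberToSpecResidueField y) (m ≫ f.fiberToSpecResidueField (iV y))
      (Spec.map (CommRingCat.ofHom (iV.residueFieldMap y).hom)) := by
    rw [CommRingCat.ofHom_hom, hm]
    haveI : IsIso r := inferInstanceAs (IsIso (Spec.map (iV.residueFieldMap y)))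
    exact IsPullback.of_horiz_isIso ⟨Category.id_comp _⟩
  have h1 : NodeSch.IsNodeOf (g.fiberToSpecResidueField y) (g.asFiber w) ↔
      NodeSch.IsNodeOf (m ≫ f.fiberToSpecResidueField (iV y)) (g.asFiber w) := by
    constructor
    · intro h
      exact NodeAlg15.Fam.isNodeOf_of_bc (m ≫ f.fiberToSpecResidueField (iV y)) (iV.residueFieldMap y).hom sq h
    · intro h
      exact NodeSch.isNodeOf_bc (m ≫ f.fiberToSpecResidueField (iV y)) (iV.residueFieldMap y).hom _ _ sq
        ((NodeSch.isNodeOf_iff _ _).1 h).1 h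
  refine h1.trans ((NodeAlg15.Fam.isNodeOf_etale_iff (f.fiberToSpecResidueField (iV y)) m _).symm.trans ?_)
  have key : ∀ (s : S) (z : f.fiber s), f (iU w) = s → f.fiberι s z = iU w →
      (NodeSch.IsNodeOf (f.fiberToSpecResidueField s) z ↔ NodeAt f (iU w)) := by
    intro s z hs hz
    subst hs
    obtain rfl : z = f.asFiber (iU w) := (f.fiberι _).isEmbedding.injective (hz.trans (f.fiberι_asFiber _).symm)
    exact Iff.rfl
  refine key _ _ ?_ ?_
  · show (iU ≫ f) w = (g ≫ iV) w
    rw [hsq]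
  · show (m ≫ f.fiberι (iV y)) (g.asFiber w) = iU w
    rw [show m ≫ f.fiberι (iV y) = g.fiberι y ≫ iU from pullback.lift_fst _ _ _, Scheme.Hom.comp_apply,
      g.fiberι_asFiber]

theorem smoothAt_openImm {X S U V : Scheme.{u}} (f : X ⟶ S) (g : U ⟶ V) (iU : U ⟶ X) (iV : V ⟶ S)
    [IsOpenImmersion iU] [IsOpenImmersion iV] [LocallyOfFinitePresentation f] (hsq : g ≫ iV = iU ≫ f) (w : U) :
    SmoothAt g w ↔ SmoothAt f (iU w) := by
  have h1 : SmoothAt (g ≫ iV) w ↔ SmoothAt g w := by
    show ((g ≫ iV).stalkMap w).hom.FormallySmooth ↔ _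
    rw [Scheme.Hom.stalkMap_comp, CommRingCat.hom_comp]
    exact RingHom.FormallySmooth.respectsIso.cancel_left_isIso (iV.stalkMap (g w)) (g.stalkMap w)
  rw [← h1, hsq]
  exact PtConds.smoothAt_precomp iU f w

/-- Around a node all points are smooth of relative dimension one or nodes. -/
theorem exists_nhd_nodeAt {X S : Scheme.{u}} (f : X ⟶ S) [Flat f] [LocallyOfFinitePresentation f] {x : X}
    (h : NodeAt f x) : ∃ U : X.Opens, x ∈ U ∧ ∀ z ∈ U,
      (SmoothAt f z ∨ NodeAt f z) ∧ FlatMor.fibreDimAt f z = ((1 : ℕ) : WithBot ℕ∞) := by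
  obtain ⟨R, _, N, M, F, hF, i, j, hi, hj, ⟨y, hy⟩, hsq⟩ := exists_std_chart f (nodeAt_ciAt f h)
  subst hy
  have hny := (nodeAt_openImm f _ i j hsq y).2 h
  obtain ⟨U, hyU, hn, hU⟩ := exists_nhd_node hF y hny
  refine ⟨i ''ᵁ U, ⟨y, hyU, rfl⟩, ?_⟩
  rintro _ ⟨z, hz, rfl⟩
  refine ⟨?_, ?_⟩
  · rcases hU z hz with h' | h'
    · exact Or.inl ((smoothAt_openImm f _ i j hsq z).1 h')
    · exact Or.inr ((nodeAt_openImm f _ i j hsq z).1 h')
  · have h1 := Synt29.fibreDimAt_relGCI hF z
    haveI := lft_relGCI F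
    rw [← FibDim.fibreDimAt_comp_mono _ j z, hsq] at h1
    erw [FibDim.fibreDimAt_openImmersion_comp i f z] at h1
    refine h1.trans ?_
    rw [hn, Nat.add_sub_cancel_left]

/-- The smooth or node locus is open. -/
theorem isOpen_smoothOrNode {X S : Scheme.{u}} (f : X ⟶ S) [Flat f] [LocallyOfFinitePresentation f] :
    IsOpen {x : X | SmoothAt f x ∨ NodeAt f x} := by
  refine isOpen_iff_forall_mem_open.2 fun x hx => ?_
  rcases hx with hx | hx
  · exact ⟨f.smoothLocus, fun z hz => Or.inl hz, f.smoothLocus.isOpen, hx⟩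
  · obtain ⟨U, hxU, hU⟩ := exists_nhd_nodeAt f hx
    exact ⟨U, fun z hz => (hU z hz).1, U.isOpen, hxU⟩

end Groth.Agent.CStk17.NodeOpen

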