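import Groth.Agent.CStk17.NodeOpen.Select
import Groth.Agent.Synt29.RelGCI
import Groth.Agent.Synt29.RelFibre
import Groth.Agent.S9142
import Groth.Agent.LC.PuncturedConn

/-!
# Rational points of zero loci in affine space
-/

set_option autoImplicit false
set_option backward.isDefEq.respectTransparency.types false
set_option linter.style.haveILetI false

universe u

open MvPolynomial IsLocalRing

namespace Groth.Agent.CStk17.NodeOpen

variable {K : Type u} [Field K] {n c : ℕ} {f : Fin c → MvPolynomial (Fin n) K}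

theorem span_range_mem_nilradical {T : Type u} [CommRing T] {ι : Type*} (y : ι → T) (hy : ∀ i, IsNilpotent (y i)) :
    Ideal.span (Set.range y) ≤ nilradical T := by
  rw [Ideal.span_le]; rintro _ ⟨i, rfl⟩; exact hy i

theorem aeval_sub_eval_mem {T : Type u} [CommRing T] [Algebra K T] (a : Fin n → K) (y : Fin n → T)
    (p : MvPolynomial (Fin n) K) :
    aeval (fun j => algebraMap K T (a j) + y j) p - algebraMap K T (eval a p) ∈ Ideal.span (Set.range y) := by
  induction p using MvPolynomial.induction_on with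
  | C c => simp
  | add p q hp hq =>
    simp only [map_add]
    rw [add_sub_add_comm]
    exact add_mem hp hq
  | mul_X p i hp =>
    simp only [map_mul, aeval_X, eval_X]
    rw [show ∀ A B C D : T, A * (B + C) - D * B = (A - D) * B + A * C from fun A B C D => by ring]
    exact add_mem (Ideal.mul_mem_right _ _ hp) (Ideal.mul_mem_left _ _ (Ideal.subset_span ⟨i, rfl⟩))

variable (χ : Synt.RelGCIRing K n c f →ₐ[K] K)

/-- The coordinates of the point. -/
noncomputable def coordOf (j : Fin n) : K := χ (Ideal.Quotient.mk _ (X j))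

theorem chi_mk (p : MvPolynomial (Fin n) K) : χ (Ideal.Quotient.mk _ p) = eval (coordOf χ) p := by
  have h : χ.comp (Ideal.Quotient.mkₐ K (Ideal.span (Set.range f))) = aeval (coordOf χ) :=
    MvPolynomial.algHom_ext fun j => by rw [aeval_X]; rfl
  have := AlgHom.congr_fun h p
  simp only [AlgHom.comp_apply, Ideal.Quotient.mkₐ_eq_mk] at this
  rw [this]
  simp [aeval_def, eval₂_id]

theorem isMaximal_ker : (RingHom.ker χ.toRingHom).IsMaximal :=
  RingHom.ker_isMaximal_of_surjective χ.toRingHom fun k => ⟨algebraMap K _ k, χ.commutes k⟩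

theorem ker_eq_span : RingHom.ker χ.toRingHom = Ideal.span (Set.range fun j =>
    Ideal.Quotient.mk (Ideal.span (Set.range f)) (X j) - algebraMap K _ (coordOf χ j)) := by
  refine le_antisymm (fun x hx => ?_) (Ideal.span_le.2 ?_)
  · obtain ⟨p, rfl⟩ := Ideal.Quotient.mk_surjective x
    have h := aeval_sub_eval_mem (T := Synt.RelGCIRing K n c f) (coordOf χ)
      (fun j => Ideal.Quotient.mk (Ideal.span (Set.range f)) (X j) - algebraMap K _ (coordOf χ j)) p
    have h0 : eval (coordOf χ) p = 0 := (chi_mk χ p).symm.trans hx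
    rw [h0, map_zero, sub_zero] at h
    refine (congrArg (· ∈ _) ?_).mp h
    simp only [add_sub_cancel]
    exact (AlgHom.congr_fun (aeval_unique (Ideal.Quotient.mkₐ K (Ideal.span (Set.range f)))) p).symm
  · rintro _ ⟨j, rfl⟩
    show χ _ = 0
    rw [map_sub, χ.commutes]
    exact sub_self _

/-- The localisation at a rational point has the universal property. -/
theorem nonempty_ptRing :
    letI := (isMaximal_ker χ).isPrime
    Nonempty (PtRing f (coordOf χ) (Localization.AtPrime (RingHom.ker χ.toRingHom))) := by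
  haveI := isMaximal_ker χ
  let P := Synt.RelGCIRing K n c f
  let q := RingHom.ker χ.toRingHom
  let A := Localization.AtPrime q
  let mk : MvPolynomial (Fin n) K →ₐ[K] P := Ideal.Quotient.mkₐ K _
  refine ⟨{
    pr := (IsScalarTower.toAlgHom K P A).comp mk
    span_eq := ?_
    rel := fun i => ?_
    lift := fun T _ _ y hy hroot => ?_
    res := fun x => ?_ }⟩
  · rw [← IsLocalization.AtPrime.map_eq_maximalIdeal q A]
    refine (congrArg (Ideal.map (algebraMap P A)) (ker_eq_span χ)).trans ?_
    rw [Ideal.map_span, ← Set.range_comp]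
    congr 2
    funext j
    show algebraMap P A (mk (X j) - algebraMap K P (coordOf χ j)) = algebraMap P A (mk (X j)) - algebraMap K A _
    rw [map_sub, ← IsScalarTower.algebraMap_apply]
  · show algebraMap P A (mk (f i)) = 0
    rw [show mk (f i) = 0 from Ideal.Quotient.eq_zero_iff_mem.2 (Ideal.subset_span ⟨i, rfl⟩), map_zero]
  · let φ₀ : P →ₐ[K] T := Ideal.Quotient.liftₐ _ (aeval fun j => algebraMap K T (coordOf χ j) + y j) (by
      intro p hp
      have hle : Ideal.span (Set.range f) ≤
          RingHom.ker (aeval fun j => algebraMap K T (coordOf χ j) + y j).toRingHom := by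
        rw [Ideal.span_le]; rintro _ ⟨i, rfl⟩; exact hroot i
      exact hle hp)
    have hφ₀ : ∀ p, φ₀ (mk p) = aeval (fun j => algebraMap K T (coordOf χ j) + y j) p := fun p => rfl
    have hunit : ∀ s : q.primeCompl, IsUnit (φ₀ s) := by
      rintro ⟨s, hs⟩
      obtain ⟨p, rfl⟩ := Ideal.Quotient.mk_surjective s
      have hp : eval (coordOf χ) p ≠ 0 := fun h => hs ((chi_mk χ p).trans h)
      have hn := span_range_mem_nilradical y hy (aeval_sub_eval_mem (coordOf χ) y p)
      show IsUnit (φ₀ (mk p))
      rw [hφ₀, ← add_sub_cancel (algebraMap K T (eval (coordOf χ) p)) (aeval _ p)]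
      exact IsNilpotent.isUnit_add_left_of_commute hn ((isUnit_iff_ne_zero.2 hp).map _) (Commute.all _ _)
    refine ⟨IsLocalization.liftAlgHom (M := q.primeCompl) (f := φ₀) hunit, fun j => ?_⟩
    show IsLocalization.lift hunit (algebraMap P A (mk (X j))) = _
    rw [IsLocalization.lift_eq]
    exact (hφ₀ _).trans (aeval_X _ _)
  · obtain ⟨p, s, rfl⟩ := IsLocalization.exists_mk'_eq q.primeCompl x
    refine ⟨χ p / χ s.1, ?_⟩
    have hs : χ s.1 ≠ 0 := s.2
    have h1 : p - algebraMap K P (χ p / χ s.1) * s.1 ∈ q := by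
      show χ _ = 0
      rw [map_sub, map_mul, χ.commutes]
      show χ p - χ p / χ s.1 * χ s.1 = 0
      rw [div_mul_cancel₀ _ hs, sub_self]
    have h2 := (IsLocalization.AtPrime.to_map_mem_maximal_iff A q _).2 h1
    rw [map_sub, map_mul, ← IsScalarTower.algebraMap_apply] at h2
    refine (Ideal.unit_mul_mem_iff_mem _ (IsLocalization.map_units A s)).1 ?_
    show algebraMap P A s.1 * (IsLocalization.mk' A p s - algebraMap K A (χ p / χ s.1)) ∈ maximalIdeal A
    rwa [show ∀ x y z : A, x * (y - z) = y * x - z * x from fun x y z => by ring, IsLocalization.mk'_spec]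

theorem one_le_height {R : Type u} [CommRing R] (p : PrimeSpectrum R) (h : ¬ IsMin p) : 1 ≤ p.asIdeal.height := by
  rw [ENat.one_le_iff_ne_zero, PrimeSpectrum.height_eq_orderHeight]
  exact fun h0 => h (Order.height_eq_zero.1 h0)

theorem exists_nzd_of_isCM (A : Type u) [CommRing A] [hCM : LocCoh.IsCohenMacaulayLocalRing A]
    (h : (1 : WithBot ℕ∞) ≤ ringKrullDim A) : ∃ r ∈ maximalIdeal A, r ∈ nonZeroDivisors A := by
  have h1 := hCM.supportDim_eq_depth
  rw [Module.supportDim_self_eq_ringKrullDim] at h1
  rw [h1] at h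
  obtain ⟨r, hr, hreg⟩ := LC.exists_regular_of_depth (M := A) (k := 1) one_pos (WithBot.coe_le_coe.1 h)
  exact ⟨r, hr, (mem_nonZeroDivisors_iff_right.2 fun z hz => hreg (show r • z = r • 0 by rw [smul_zero, smul_eq_mul, mul_comm, hz]))⟩

/-- The local ring at a rational point has a nonzerodivisor in the maximal ideal. -/
theorem exists_nzd (hrel : Synt.IsRelGCI K n c f) (hcn : c < n) :
    letI := (isMaximal_ker χ).isPrime
    ∃ r ∈ maximalIdeal (Localization.AtPrime (RingHom.ker χ.toRingHom)),
      r ∈ nonZeroDivisors (Localization.AtPrime (RingHom.ker χ.toRingHom)) := by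
  haveI := isMaximal_ker χ
  let q := RingHom.ker χ.toRingHom
  let A := Localization.AtPrime q
  haveI hCM : LocCoh.IsCohenMacaulayLocalRing A := S9142.isCM_relGCIRing hrel q
  have hnot : ¬ IsMin (⟨q, inferInstance⟩ : PrimeSpectrum (Synt.RelGCIRing K n c f)) := fun hmin => by
    have h := Synt29.sub_le_coheight_of_isMin f _ hmin
    rw [Order.coheight_eq_zero.2 ((PrimeSpectrum.isMax_iff).2 (isMaximal_ker χ)), nonpos_iff_eq_zero,
      Nat.cast_eq_zero] at h
    omega
  refine exists_nzd_of_isCM A ?_
  rw [IsLocalization.AtPrime.ringKrullDim_eq_height q A]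
  have h2 : (1 : ℕ∞) ≤ q.height := one_le_height ⟨q, inferInstance⟩ hnot
  exact WithBot.coe_le_coe.2 h2

end Groth.Agent.CStk17.NodeOpen
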