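import Groth.Agent.CStk17.NodeOpen.Open
import Groth.Agent.CStk17.NodeFacts
import Groth.Agent.S2156
import Groth.Agent.GerbFlat.Scheme
import Groth.Agent.FibDim.Basic
import Groth.Agent.VarDim.IrredFibres

/-!
# Smooth of relative dimension one or node: a pointwise condition cutting out nodal families
-/

set_option autoImplicit false
set_option backward.isDefEq.respectTransparency false
set_option backward.isDefEq.respectTransparency.types false
set_option linter.style.haveILetI false

universe u

open CategoryTheory CategoryTheory.Limits AlgebraicGeometry IsLocalRing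

namespace Groth.Agent.CStk17.NodeOpen

open PtConds (SmoothAt)
open NodeSch (IsNodeOf IsAWN)

/-- Smooth of relative dimension one, or a node of the fibre. -/
def NodalAt {X S : Scheme.{u}} (g : X ⟶ S) (x : X) : Prop :=
  (SmoothAt g x ∧ FlatMor.fibreDimAt g x = ((1 : ℕ) : WithBot ℕ∞)) ∨ NodeAt g x

/-- The points over a closed point are closed after a base field extension. -/
theorem isClosed_of_isPullback {k K : Type u} [Field k] [Field K] (j : k →+* K) {X Z : Scheme.{u}}
    {p : X ⟶ Spec (CommRingCat.of k)} [LocallyOfFiniteType p] {g : Z ⟶ X} {r : Z ⟶ Spec (CommRingCat.of K)}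
    (sq : IsPullback g r p (Spec.map (CommRingCat.ofHom j))) {z : Z} (hx : IsClosed ({g z} : Set X)) :
    IsClosed ({z} : Set Z) := by
  haveI : JacobsonSpace X := LocallyOfFiniteType.jacobsonSpace p
  haveI : IsClosedImmersion (X.fromSpecResidueField (g z)) := isClosed_singleton_iff_isClosedImmersion.mp hx
  let ι := X.fromSpecResidueField (g z)
  haveI : IsFinite (ι ≫ p) := isFinite_iff_locallyOfFiniteType_of_jacobsonSpace.mpr inferInstance
  let pr := pullback.fst g ι
  have hpb := (IsPullback.of_hasPullback g ι).flip.paste_vert sq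
  haveI : IsFinite (pr ≫ r) := by
    first
    | exact MorphismProperty.of_isPullback hpb.flip ‹IsFinite (ι ≫ p)›
    | exact MorphismProperty.of_isPullback hpb ‹IsFinite (ι ≫ p)›
  haveI : Finite ↥(pullback g ι) := by
    refine Set.finite_univ_iff.mp ?_
    have := (pr ≫ r).finite_preimage_singleton (closedPoint K)
    refine this.subset fun z _ => Subsingleton.elim (α := PrimeSpectrum K) _ _
  haveI : JacobsonSpace ↥(pullback g ι) := LocallyOfFiniteType.jacobsonSpace (pr ≫ r)
  obtain ⟨w, hw⟩ : z ∈ Set.range pr := by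
    rw [Scheme.Pullback.range_fst, Set.mem_preimage, Scheme.range_fromSpecResidueField]
    rfl
  haveI : IsClosedImmersion pr := inferInstance
  have := pr.isClosedEmbedding.isClosedMap _ (isClosed_discrete {w})
  rwa [Set.image_singleton, hw] at this

theorem nodeAt_fiber_congr {X S : Scheme.{u}} (f : X ⟶ S) (x : X) (s : S) (z : f.fiber s) (hs : f x = s)
    (hz : f.fiberι s z = x) : IsNodeOf (f.fiberToSpecResidueField s) z ↔ NodeAt f x := by
  subst hs
  obtain rfl : z = f.asFiber x := (f.fiberι _).isEmbedding.injective (hz.trans (f.fiberι_asFiber _).symm)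
  exact Iff.rfl

/-- Being a node of the fibre is invariant under base change. -/
theorem nodeAt_baseChange {X Y X' Y' : Scheme.{u}} (g : X ⟶ Y) [LocallyOfFinitePresentation g] (φ : Y' ⟶ Y)
    (g' : X' ⟶ Y') (fst : X' ⟶ X) (h : IsPullback fst g' g φ) (x' : X') :
    NodeAt g' x' ↔ NodeAt g (fst x') := by
  let y' := g' x'
  have small : IsPullback (g.fiberι (φ y')) (g.fiberToSpecResidueField (φ y')) g
      (Y.fromSpecResidueField (φ y')) :=
    IsPullback.of_hasPullback _ _
  have big : IsPullback (g'.fiberι y' ≫ fst) (g'.fiberToSpecResidueField y') g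
      (Spec.map (φ.residueFieldMap y') ≫ Y.fromSpecResidueField (φ y')) := by
    rw [Scheme.Hom.SpecMap_residueFieldMap_fromSpecResidueField]
    exact (IsPullback.of_hasPullback g' (Y'.fromSpecResidueField y')).paste_horiz h
  have hw : (g'.fiberι y' ≫ fst) ≫ g =
      (g'.fiberToSpecResidueField y' ≫ Spec.map (φ.residueFieldMap y')) ≫ Y.fromSpecResidueField (φ y') := by
    rw [Category.assoc, Category.assoc]; exact (Category.assoc _ _ _).symm.trans big.w
  let m := small.lift _ _ hw
  have sq : IsPullback m (g'.fiberToSpecResidueField y') (g.fiberToSpecResidueField (φ y'))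
      (Spec.map (CommRingCat.ofHom (φ.residueFieldMap y').hom)) := by
    rw [CommRingCat.ofHom_hom]
    refine IsPullback.of_right ?_ (small.lift_snd _ _ _) small
    rw [small.lift_fst]
    exact big
  haveI : LocallyOfFinitePresentation (g.fiberToSpecResidueField (φ y')) :=
    MorphismProperty.pullback_snd _ _ ‹_›
  have hm : g.fiberι (φ y') (m (g'.asFiber x')) = fst x' := by
    rw [← Scheme.Hom.comp_apply, small.lift_fst, Scheme.Hom.comp_apply, g'.fiberι_asFiber]
  rw [← nodeAt_fiber_congr g (fst x') (φ y') (m (g'.asFiber x')) (by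
    rw [← Scheme.Hom.comp_apply, h.w, Scheme.Hom.comp_apply]) hm]
  refine ⟨fun hn => NodeAlg15.Fam.isNodeOf_of_bc _ (φ.residueFieldMap y').hom sq hn, fun hn => ?_⟩
  exact NodeSch.isNodeOf_bc _ (φ.residueFieldMap y').hom _ _ sq
    (isClosed_of_isPullback _ sq ((NodeSch.isNodeOf_iff _ _).1 hn).1) hn

/-- Being a node of the fibre is invariant under étale maps on the source. -/
theorem nodeAt_precomp {X Y Z : Scheme.{u}} (e : X ⟶ Y) [Etale e] (g : Y ⟶ Z) [LocallyOfFiniteType g] (x : X) :
    NodeAt (e ≫ g) x ↔ NodeAt g (e x) := by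
  let s := (e ≫ g) x
  haveI : Etale (MoreMor.fiberMap e g s) :=
    MorphismProperty.of_isPullback (GerbFlat.isPullback_fiberMap e g s) ‹Etale e›
  haveI : LocallyOfFiniteType (g.fiberToSpecResidueField s) := MorphismProperty.pullback_snd _ _ ‹_›
  have hs : MoreMor.fiberMap e g s ≫ g.fiberToSpecResidueField s = (e ≫ g).fiberToSpecResidueField s :=
    pullback.lift_snd _ _ _
  have h1 := NodeAlg15.Fam.isNodeOf_etale_iff (g.fiberToSpecResidueField s) (MoreMor.fiberMap e g s)
    ((e ≫ g).asFiber x)
  rw [hs] at h1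
  refine (h1.symm.trans ?_)
  refine nodeAt_fiber_congr g (e x) s _ rfl ?_
  rw [← Scheme.Hom.comp_apply, show MoreMor.fiberMap e g s ≫ g.fiberι s = (e ≫ g).fiberι s ≫ e from
    pullback.lift_fst _ _ _, Scheme.Hom.comp_apply, Scheme.Hom.fiberι_asFiber]

theorem isPtCond_nodalAt : FamLocus.IsPtCond.{u} (fun g x => NodalAt g x) where
  isOpen g _ _ := isOpen_iff_forall_mem_open.2 fun x hx => by
    rcases hx with hx | hx
    · exact ⟨_, fun z hz => Or.inl hz, PtConds.isPtCond_smooth_one.isOpen g, hx⟩
    · obtain ⟨U, hxU, hU⟩ := exists_nhd_nodeAt g hx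
      exact ⟨U, fun z hz => (hU z hz).1.imp (fun h => ⟨h, (hU z hz).2⟩) id, U.isOpen, hxU⟩
  baseChange g _ _ φ g' fst h x' :=
    or_congr (PtConds.isPtCond_smooth_one.baseChange g φ g' fst h x') (nodeAt_baseChange g φ g' fst h x')
  precomp e _ g _ _ x := or_congr (PtConds.isPtCond_smooth_one.precomp e g x) (nodeAt_precomp e g x)

theorem fibreDimAt_of_nodalAt {X S : Scheme.{u}} (f : X ⟶ S) [Flat f] [LocallyOfFinitePresentation f] {x : X}
    (h : NodalAt f x) : FlatMor.fibreDimAt f x = ((1 : ℕ) : WithBot ℕ∞) := by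
  rcases h with h | h
  · exact h.2
  · obtain ⟨U, hxU, hU⟩ := exists_nhd_nodeAt f h
    exact (hU x hxU).2

/-- All components of all fibres are curves iff the fibre dimension is one everywhere. -/
theorem components_iff {X S : Scheme.{u}} (f : X ⟶ S) [LocallyOfFiniteType f] :
    (∀ s : S, ∀ Z ∈ irreducibleComponents (f.fiber s : Type u), topologicalKrullDim Z = 1) ↔
      ∀ x, FlatMor.fibreDimAt f x = ((1 : ℕ) : WithBot ℕ∞) := by
  have hc : ∀ (s : S) (w : ↥(f.fiber s)),
      topologicalKrullDim (closure ({w} : Set ↥(f.fiber s))) = ((FibDim.rd f (f.fiberι s w) : ℕ∞) : WithBot ℕ∞) := by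
    intro s w
    haveI : LocallyOfFiniteType (f.fiberToSpecResidueField s) := MorphismProperty.pullback_snd _ _ ‹_›
    rw [VarDim.topologicalKrullDim_closure_singleton (k := S.residueField s) (f.fiberToSpecResidueField s),
      FibDim.deg_fiber f s w]
  constructor
  · intro h x
    obtain ⟨z, -, hfz, hmax, he⟩ := FibDim.exists_fibMax_generization f x
    obtain ⟨w, rfl⟩ : z ∈ Set.range (f.fiberι (f x)) := by rw [Scheme.Hom.range_fiberι]; exact hfz
    rw [he, ← hc, h _ _ (VarDim.closure_mem_irreducibleComponents ((FibDim.fibMax_fiberι_iff f w).1 hmax))]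
    rfl
  · intro h s Z hZ
    obtain ⟨w, rfl, hw⟩ := VarDim.exists_generic_of_component hZ
    rw [hc, ← FibDim.fibreDimAt_eq_rd f ((FibDim.fibMax_fiberι_iff f w).2 hw), h]
    rfl

/-- Nodal families are cut out pointwise. -/
theorem isNodalFamily_iff_forall {X S : Scheme.{u}} (f : X ⟶ S) [Flat f] [LocallyOfFinitePresentation f] :
    Curv2.IsNodalFamily f ↔ ∀ x, NodalAt f x := by
  rw [NodeAlg15.Fam.isNodalFamily_iff]
  constructor
  · intro h x
    have hd : ∀ y, FlatMor.fibreDimAt f y = ((1 : ℕ) : WithBot ℕ∞) :=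
      (components_iff f).1 fun s => (h.2.2 s).1
    haveI : LocallyOfFinitePresentation (f.fiberToSpecResidueField (f x)) := MorphismProperty.pullback_snd _ _ ‹_›
    have hdim : topologicalKrullDim ↥(f.fiber (f x)) ≤ 1 := by
      rw [VarDim.topologicalKrullDim_eq_iSup_deg (k := S.residueField (f x)) (f.fiberToSpecResidueField (f x))]
      refine iSup_le fun w => ?_
      rw [FibDim.deg_fiber f (f x) w]
      exact (FibDim.rd_le_fibreDimAt f (specializes_rfl) rfl).trans ((hd _).le)
    rcases NodeSch.smooth_or_isNodeOf (f.fiberToSpecResidueField (f x)) hdim (h.2.2 (f x)).2 (f.asFiber x) with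
      hsm | hn
    · exact Or.inl ⟨(Groth.Agent.S2156.result f x).2 ⟨Flat.stalkMap f x, hsm⟩, hd x⟩
    · exact Or.inr hn
  · intro h
    refine ⟨inferInstance, inferInstance, fun s => ⟨(components_iff f).2 (fun x => fibreDimAt_of_nodalAt f (h x)) s,
      fun w _ => ?_⟩⟩
    haveI : LocallyOfFinitePresentation (f.fiberToSpecResidueField s) := MorphismProperty.pullback_snd _ _ ‹_›
    rcases h (f.fiberι s w) with hs | hn
    · refine Or.inl (NodeAlg15.Fam.exists_smooth_open (f.fiberToSpecResidueField s) ?_)
      exact (PtConds.isPtCond_smooth.baseChange f (S.fromSpecResidueField s) (f.fiberToSpecResidueField s)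
        (f.fiberι s) (IsPullback.of_hasPullback _ _) w).2 hs.1
    · exact Or.inr ((nodeAt_fiber_congr f (f.fiberι s w) s w (FibDim.fiber_apply_fiberι f w) rfl).2 hn)

end Groth.Agent.CStk17.NodeOpen
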