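import Groth.Agent.CStk17.NodeOpen.Local2

/-!
# A nonvanishing critical invariant at a quadratic node
-/

set_option autoImplicit false
set_option backward.isDefEq.respectTransparency.types false
set_option linter.style.haveILetI false

universe u

open MvPolynomial Matrix IsLocalRing

namespace Groth.Agent.CStk17.NodeOpen.PtRing

open NodeAlg15 (quad IsQuadNode)

variable {K : Type u} [Field K] {A : Type u} [CommRing A] [IsLocalRing A] [Algebra K A] [IsNoetherianRing A]

theorem finrank_ker_eq {n c : ℕ} {f : Fin c → MvPolynomial (Fin n) K} {a : Fin n → K} (D : PtRing f a A)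
    (hN : IsQuadNode A) : Module.finrank K (LinearMap.ker (Matrix.toLin' (jacAt f a))) = 2 := by
  obtain ⟨h2, -, x, y, -, -, -, hxy, -, -⟩ := hN
  exact le_antisymm (D.finrank_ker_le x y hxy) (h2 ▸ D.spanFinrank_le)

/-- A curve with a node needs an equation. -/
theorem ne_zero_of_isQuadNode {c : ℕ} {f : Fin c → MvPolynomial (Fin (c + 1)) K} {a : Fin (c + 1) → K}
    (D : PtRing f a A) (hN : IsQuadNode A) : c ≠ 0 := by
  rintro rfl
  have h := (Submodule.finrank_le (LinearMap.ker (Matrix.toLin' (jacAt f a))))
  rw [D.finrank_ker_eq hN, Module.finrank_fin_fun] at h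
  omega

/-- Minors of the maximal possible size. -/
theorem exists_sel {m : ℕ} {f : Fin (m + 1) → MvPolynomial (Fin (m + 2)) K} {a : Fin (m + 2) → K}
    (D : PtRing f a A) (hN : IsQuadNode A) : ∃ σ : Sel m (m + 1), σ.crit (jacAt f a) (hessAt f a) ≠ 0 := by
  classical
  set J := jacAt f a with hJ
  have hker : Module.finrank K (LinearMap.ker (Matrix.toLin' J)) = 2 := D.finrank_ker_eq hN
  have hrank : J.rank = m := by
    have := (Matrix.toLin' J).finrank_range_add_finrank_ker
    rw [hker, Module.finrank_fin_fun] at this
    show Module.finrank K (LinearMap.range J.mulVecLin) = m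
    rw [← Matrix.toLin'_apply']
    omega
  obtain ⟨g, hg, -, hgi⟩ := Submodule.exists_fun_fin_finrank_span_eq K (Set.range J.row)
  have hfr : Module.finrank K (Submodule.span K (Set.range J.row)) = m := by
    rw [← Matrix.rank_eq_finrank_span_row]; exact hrank
  choose r0 hr0 using hg
  let r : Fin m → Fin (m + 1) := fun l => r0 (Fin.cast hfr.symm l)
  have hrinj : Function.Injective r := fun l l' h => by
    have h' : g (Fin.cast hfr.symm l) = g (Fin.cast hfr.symm l') := by rw [← hr0, ← hr0]; exact congrArg _ h
    simpa using hgi.injective h'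
  have hA : LinearIndependent K (J.submatrix r id).row := by
    have h := hgi.comp (Fin.cast hfr.symm) (Fin.cast_injective _)
    rw [← show (fun i => J.row (r0 i)) = g from funext hr0] at h
    exact h
  have hArank : (J.submatrix r id).rank = m := by rw [hA.rank_matrix, Fintype.card_fin]
  obtain ⟨g', hg', -, hgi'⟩ := Submodule.exists_fun_fin_finrank_span_eq K (Set.range (J.submatrix r id).col)
  have hfr' : Module.finrank K (Submodule.span K (Set.range (J.submatrix r id).col)) = m := by
    rw [← Matrix.rank_eq_finrank_span_cols]; exact hArank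
  choose S0 hS0 using hg'
  let S : Fin m → Fin (m + 2) := fun l => S0 (Fin.cast hfr'.symm l)
  have hcols : LinearIndependent K ((J.submatrix r id).submatrix id S).col := by
    have h := hgi'.comp (Fin.cast hfr'.symm) (Fin.cast_injective _)
    rw [← show (fun i => (J.submatrix r id).col (S0 i)) = g' from funext hS0] at h
    exact h
  have hmiss : ∃ i₀, ∀ l, r l ≠ i₀ := by
    by_contra! h
    have := Fintype.card_le_of_surjective r h
    simp at this
  obtain ⟨i₀, hi₀⟩ := hmiss
  have hbij : Function.Bijective (fun o : Option (Fin m) => o.elim i₀ r) := by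
    refine (Fintype.bijective_iff_injective_and_card _).2 ⟨?_, by simp⟩
    rintro (_ | l) (_ | l') h
    · rfl
    · exact absurd h.symm (hi₀ l')
    · exact absurd h (hi₀ l)
    · exact congrArg some (hrinj h)
  let σ : Sel m (m + 1) := ⟨(Equiv.ofBijective _ hbij).symm, S⟩
  have hr : σ.r = r := funext fun l => by simp [Sel.r, σ]
  have hδ : σ.dlt J ≠ 0 := by
    rw [Sel.dlt, Sel.rowsMat, hr]
    have h := (Matrix.linearIndependent_cols_iff_isUnit).1 hcols
    exact ((Matrix.isUnit_iff_isUnit_det _).1 h).ne_zero
  have hl : σ.lam J ᵥ* J = 0 := by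
    by_contra hne
    obtain ⟨j, hj⟩ := Function.ne_iff.1 hne
    obtain ⟨col, hcol⟩ := σ.exists_full_minor J hδ hj
    have hsurj : Function.Surjective (Matrix.toLin' J) := fun v => by
      obtain ⟨y, hy⟩ := (Matrix.mulVec_surjective_iff_isUnit.2
        ((Matrix.isUnit_iff_isUnit_det _).2 (isUnit_iff_ne_zero.2 hcol))) v
      refine ⟨fun i => ∑ k, if col k = i then y k else 0, ?_⟩
      rw [Matrix.toLin'_apply, ← hy]
      funext i
      simp only [Matrix.mulVec, dotProduct, Finset.mul_sum, Matrix.submatrix_apply, id_eq]
      rw [Finset.sum_comm]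
      simp
    have := (Matrix.toLin' J).finrank_range_add_finrank_ker
    rw [hker, LinearMap.range_eq_top.2 hsurj, finrank_top, Module.finrank_fin_fun, Module.finrank_fin_fun] at this
    omega
  exact ⟨σ, mul_ne_zero hδ (D.bord_det_ne_zero σ hδ hl hN)⟩

end Groth.Agent.CStk17.NodeOpen.PtRing
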