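import Mathlib

/-!
# Second order Taylor expansion of polynomials and test rings
-/

set_option autoImplicit false
set_option backward.isDefEq.respectTransparency.types false

universe u

open MvPolynomial Matrix

namespace Groth.Agent.CStk17.NodeOpen

variable {K : Type u} [CommRing K] {n : ℕ}

/-- The matrix of second partial derivatives. -/
noncomputable def hessM (f : MvPolynomial (Fin n) K) : Matrix (Fin n) (Fin n) (MvPolynomial (Fin n) K) :=
  Matrix.of fun i j => pderiv i (pderiv j f)

/-- The value of a quadratic form given by a matrix. -/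
noncomputable def qval {T : Type u} [CommRing T] [Algebra K T] (Q : Matrix (Fin n) (Fin n) K) (y : Fin n → T) : T :=
  y ⬝ᵥ (Q.map (algebraMap K T) *ᵥ y)

theorem qval_add {T : Type u} [CommRing T] [Algebra K T] (Q Q' : Matrix (Fin n) (Fin n) K) (y : Fin n → T) :
    qval (Q + Q') y = qval Q y + qval Q' y := by
  simp [qval, Matrix.map_add _ (map_add _), add_mulVec, dotProduct_add]

theorem qval_smul {T : Type u} [CommRing T] [Algebra K T] (c : K) (Q : Matrix (Fin n) (Fin n) K) (y : Fin n → T) :
    qval (c • Q) y = algebraMap K T c * qval Q y := by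
  simp only [qval, Matrix.mulVec, dotProduct, Matrix.map_apply, Matrix.smul_apply, smul_eq_mul, map_mul,
    Finset.mul_sum]
  exact Finset.sum_congr rfl fun i _ => Finset.sum_congr rfl fun j _ => by ring

theorem qval_vecMulVec {T : Type u} [CommRing T] [Algebra K T] (v w : Fin n → K) (y : Fin n → T) :
    qval (vecMulVec v w) y = (∑ i, algebraMap K T (v i) * y i) * ∑ j, algebraMap K T (w j) * y j := by
  simp only [qval, Matrix.mulVec, dotProduct, Matrix.map_apply, vecMulVec_apply, map_mul, Finset.mul_sum,
    Finset.sum_mul]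
  rw [Finset.sum_comm]
  exact Finset.sum_congr rfl fun i _ => Finset.sum_congr rfl fun j _ => by ring

theorem qval_mem_sq {T : Type u} [CommRing T] [Algebra K T] (Q : Matrix (Fin n) (Fin n) K) (y : Fin n → T)
    (N : Ideal T) (hy : ∀ i, y i ∈ N) : qval Q y ∈ N ^ 2 := by
  show ∑ i, y i * (Q.map (algebraMap K T) *ᵥ y) i ∈ N ^ 2
  refine Ideal.sum_mem _ fun i _ => ?_
  rw [sq]
  exact Ideal.mul_mem_mul (hy i) (show ∑ j, (Q.map (algebraMap K T)) i j * y j ∈ N from
    Ideal.sum_mem _ fun j _ => Ideal.mul_mem_left _ _ (hy j))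

/-- Second order Taylor expansion. -/
theorem exists_taylor (f : MvPolynomial (Fin n) K) (a : Fin n → K) :
    ∃ Q : Matrix (Fin n) (Fin n) K, Q + Qᵀ = (hessM f).map (eval a) ∧
      ∀ (T : Type u) [CommRing T] [Algebra K T] (N : Ideal T) (y : Fin n → T), (∀ i, y i ∈ N) →
        aeval (fun i => algebraMap K T (a i) + y i) f -
          (algebraMap K T (eval a f) + ∑ i, algebraMap K T (eval a (pderiv i f)) * y i + qval Q y) ∈ N ^ 3 := by
  classical
  induction f using MvPolynomial.induction_on with
  | C c =>
    refine ⟨0, by ext i j; simp [hessM], fun T _ _ N y _ => ?_⟩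
    simp [qval]
  | add p q hp hq =>
    obtain ⟨Q, hQ, hQ'⟩ := hp
    obtain ⟨R, hR, hR'⟩ := hq
    refine ⟨Q + R, ?_, fun T _ _ N y hy => ?_⟩
    · rw [show hessM (p + q) = hessM p + hessM q by ext i j; simp [hessM], Matrix.map_add _ (map_add _),
        ← hQ, ← hR, transpose_add]
      abel
    · refine (congrArg (· ∈ N ^ 3) ?_).mp (add_mem (hQ' T N y hy) (hR' T N y hy))
      simp only [map_add, qval_add, Finset.sum_add_distrib, add_mul]
      ring
  | mul_X p k hp =>
    obtain ⟨Q, hQ, hQ'⟩ := hp
    let g : Fin n → K := fun i => eval a (pderiv i p)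
    refine ⟨a k • Q + vecMulVec (Pi.single k 1) g, ?_, fun T _ _ N y hy => ?_⟩
    · ext i j
      have h := congrFun (congrFun hQ i) j
      simp only [Matrix.add_apply, transpose_apply, Matrix.map_apply, hessM, of_apply] at h
      simp only [Matrix.add_apply, transpose_apply, Matrix.map_apply, hessM, of_apply, Matrix.smul_apply,
        smul_eq_mul, vecMulVec_apply, g, pderiv_mul, map_add, pderiv_X, map_mul, eval_X, ← h]
      by_cases hi : i = k <;> by_cases hj : j = k <;> simp [hi, hj, Pi.single_apply] <;> ring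
    · have h1 : ∑ i, algebraMap K T (Pi.single (M := fun _ => K) k 1 i) * y i = y k := by
        simp [Pi.single_apply]
      have h2 : ∑ i, algebraMap K T (eval a (pderiv i (p * X k))) * y i =
          algebraMap K T (a k) * (∑ i, algebraMap K T (g i) * y i) + algebraMap K T (eval a p) * y k := by
        simp only [g, pderiv_mul, map_add, map_mul, eval_X, add_mul, Finset.sum_add_distrib, Finset.mul_sum]
        congr 1
        · exact Finset.sum_congr rfl fun i _ => by ring
        · simp [pderiv_X, Pi.single_apply]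
      have hq3 : qval Q y * y k ∈ N ^ 3 := by
        rw [pow_succ]
        exact Ideal.mul_mem_mul (qval_mem_sq Q y N hy) (hy k)
      refine (congrArg (· ∈ N ^ 3) ?_).mp
        (add_mem (Ideal.mul_mem_right (algebraMap K T (a k) + y k) _ (hQ' T N y hy)) hq3)
      rw [h2, qval_add, qval_smul, qval_vecMulVec, h1]
      simp only [map_mul, aeval_X, eval_X, g]
      ring

/-- The ring of jets of order `k` of the line. -/
abbrev Jet (K : Type u) [CommRing K] (k : ℕ) : Type u := Polynomial K ⧸ Ideal.span {(Polynomial.X : Polynomial K) ^ k}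

/-- The coordinate of the jets. -/
noncomputable def jt (K : Type u) [CommRing K] (k : ℕ) : Jet K k := Ideal.Quotient.mk _ Polynomial.X

theorem jt_pow_self (k : ℕ) : jt K k ^ k = 0 := by
  rw [jt, ← map_pow]
  exact Ideal.Quotient.eq_zero_iff_mem.2 (Ideal.mem_span_singleton_self _)

theorem eq_zero_of_jt_pow {k j : ℕ} (hj : j < k) {c : K} (h : algebraMap K (Jet K k) c * jt K k ^ j = 0) : c = 0 := by
  have h' : Ideal.Quotient.mk (Ideal.span {(Polynomial.X : Polynomial K) ^ k})
      (Polynomial.C c * Polynomial.X ^ j) = 0 := by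
    rw [map_mul, map_pow]; exact h
  obtain ⟨d, hd⟩ := Ideal.mem_span_singleton'.1 (Ideal.Quotient.eq_zero_iff_mem.1 h')
  have := congrArg (fun q => Polynomial.coeff q j) hd
  simpa [Polynomial.coeff_mul_X_pow', Polynomial.coeff_C_mul, Polynomial.coeff_X_pow, not_le.2 hj] using this.symm

theorem span_jt_pow (k : ℕ) : Ideal.span {jt K k} ^ k = ⊥ := by
  rw [Ideal.span_singleton_pow, jt_pow_self, Ideal.span_singleton_zero]

end Groth.Agent.CStk17.NodeOpen
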